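import Cfsg.Agent.Lib.SpFourEven23.Ext
import Cfsg.Agent.Lib.K41.ExtForm.OfMatrix
import Cfsg.Agent.Lib.SubfieldMax.RatLin
import Cfsg.Agent.Lib.SubfieldMax.Form

/-!
Subfield groups in the four-dimensional symplectic groups in characteristic two: rational frames,
the radical of the stabiliser of a rational point, and its parameters.
Owner: helper23.
-/
set_option autoImplicit false
set_option linter.unusedSectionVars false

namespace Cfsg.Agent.Lib.SpFourEven23.Subfield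

open Matrix Module Cfsg.Agent.Lib.Subspaces.Transvection Cfsg.Agent.Lib.Subspaces.FormVec
  Cfsg.Agent.Lib.SubfieldMax.Linear Cfsg.Agent.Lib.SubfieldMax.RatLin
  Cfsg.Agent.Lib.SpFourEven23.Ext Cfsg.Agent.Lib.K41.ExtForm

variable {ι : Type} [Fintype ι] [DecidableEq ι] {F : Type*} [Field F]

local notation "Vec" => ι → F
local notation "Mat" => Matrix ι ι F

/-- Standing data: a symplectic form rational on rational vectors, a group of isometries containing
the rational isometries. -/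
structure Setting (F₀ : Subfield F) (B : (ι → F) →ₗ[F] (ι → F) →ₗ[F] F)
    (M : Subgroup (GL ι F)) : Prop where
  card : Fintype.card ι = 4
  two : (2 : F) = 0
  alt : ∀ v, B v v = 0
  nd : ∀ v, (∀ w, B v w = 0) → v = 0
  rat : ∀ u v, Rat F₀ u → Rat F₀ v → B u v ∈ F₀
  iso : ∀ g ∈ M, ∀ u v, B ((g : Mat) *ᵥ u) ((g : Mat) *ᵥ v) = B u v
  hR : ∀ g : GL ι F, (∀ i j, (g : Mat) i j ∈ F₀) →
    (∀ u v, B ((g : Mat) *ᵥ u) ((g : Mat) *ᵥ v) = B u v) → g ∈ M

/-- A rational symplectic frame. -/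
structure Fr (F₀ : Subfield F) (B : (ι → F) →ₗ[F] (ι → F) →ₗ[F] F) (x y w u : ι → F) : Prop where
  hx : Rat F₀ x
  hy : Rat F₀ y
  hw : Rat F₀ w
  hu : Rat F₀ u
  xy : B x y = 0
  xw : B x w = 0
  xu : B x u = 1
  yw : B y w = 1
  yu : B y u = 0
  wu : B w u = 0

/-- The parameters occurring at every rational frame. -/
def InP (F₀ : Subfield F) (B : (ι → F) →ₗ[F] (ι → F) →ₗ[F] F) (M : Subgroup (GL ι F))
    (r s α : F) : Prop :=
  ∀ x y w u, Fr F₀ B x y w u → ∃ g ∈ M, Acts x y w u r s α (glEquiv g)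

variable {F₀ : Subfield F} {B : (ι → F) →ₗ[F] (ι → F) →ₗ[F] F} {M : Subgroup (GL ι F)}

namespace Setting

variable (S : Setting F₀ B M)
include S

theorem charP : CharP F 2 := (CharP.charP_iff_prime_eq_zero Nat.prime_two).2 S.two

theorem vv (v : Vec) : v + v = 0 := by rw [← two_smul F v, S.two, zero_smul]

theorem symm (u v : Vec) : B u v = B v u := by
  have h := S.alt (u + v)
  simp only [map_add, LinearMap.add_apply, S.alt, zero_add, add_zero] at h
  linear_combination h - B u v * (0 : F) - B v u * S.two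

theorem linL : IsLinearLeft (fun u v => B u v) :=
  ⟨fun x y v => by simp, fun c x v => by simp⟩

theorem ndForm : Cfsg.Geo.IsNondegenerateForm (fun u v => B u v) := fun v hv => by
  obtain ⟨y, hy⟩ : ∃ y, B v y ≠ 0 := by
    by_contra h
    push Not at h
    exact hv (S.nd v h)
  exact ⟨⟨y, by rwa [S.symm] at hy⟩, y, hy⟩

theorem rat_formVec {v : Vec} (hv : Rat F₀ v) : Rat F₀ (formVec (fun u v => B u v) v) :=
  fun i => S.rat _ _ (Rat.single i (one_mem _)) hv

theorem fv_dot (v z : Vec) : formVec (fun u v => B u v) v ⬝ᵥ z = B z v :=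
  formVec_dot S.linL v z

theorem sep [Finite F] {k : ℕ} (v : Fin k → Vec) (hv : ∀ i, Rat F₀ (v i)) {s : Vec} (hs : Rat F₀ s)
    (hns : s ∉ Submodule.span F (Set.range v)) :
    ∃ y : Vec, Rat F₀ y ∧ (∀ i, B (v i) y = 0) ∧ B s y = 1 := by
  obtain ⟨χ, hχ, hχu, hχs⟩ := exists_sep v hv hs hns
  obtain ⟨y, hy, rfl⟩ := exists_rat_formVec S.linL (fun x v w => by simp) S.ndForm S.rat hχ
  exact ⟨y, hy, fun i => by rw [← S.fv_dot]; exact hχu i, by rw [← S.fv_dot]; exact hχs⟩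

theorem orth [Finite F] {k l : ℕ} (φ : Fin k → Vec) (hφ : ∀ i, Rat F₀ (φ i)) (v : Fin l → Vec)
    (hv : ∀ i, Rat F₀ (v i)) (h : k + l < 4) :
    ∃ z : Vec, Rat F₀ z ∧ z ∉ Submodule.span F (Set.range v) ∧ ∀ i, B z (φ i) = 0 := by
  obtain ⟨z, hz, hzn, hzφ⟩ := exists_orth_not_mem (fun i => formVec (fun u v => B u v) (φ i))
    (fun i => S.rat_formVec (hφ i)) v hv (by rw [S.card]; exact h)
  exact ⟨z, hz, hzn, fun i => by rw [← S.fv_dot]; exact hzφ i⟩

/-- Every non-zero rational vector starts a frame. -/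
theorem exists_frame [Finite F] {x : Vec} (hx : Rat F₀ x) (hx0 : x ≠ 0) :
    ∃ y w u, Fr F₀ B x y w u := by
  obtain ⟨u, hu, -, hxu⟩ := S.sep (k := 0) ![] (fun i => i.elim0) hx (by simpa using hx0)
  obtain ⟨y, hy, hyn, hyo⟩ := S.orth ![x, u] (fun i => by fin_cases i; exacts [hx, hu])
    (l := 0) ![] (fun i => i.elim0) (by omega)
  have hy0 : y ≠ 0 := fun e => hyn (e ▸ Submodule.zero_mem _)
  have hyx : B y x = 0 := hyo 0
  have hyu : B y u = 0 := hyo 1
  have hyn' : y ∉ Submodule.span F (Set.range ![x, u]) := by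
    rw [Matrix.range_cons_cons_empty, Submodule.mem_span_pair]
    rintro ⟨a, b, rfl⟩
    apply hy0
    simp [S.alt, S.symm u x, hxu] at hyx hyu
    rw [hyx, hyu, zero_smul, zero_smul, add_zero]
  obtain ⟨w, hw, hwo, hyw⟩ := S.sep ![x, u] (fun i => by fin_cases i; exacts [hx, hu]) hy hyn'
  have hxw : B x w = 0 := hwo 0
  have huw : B u w = 0 := hwo 1
  exact ⟨y, w, u, hx, hy, hw, hu, by rw [S.symm]; exact hyx, hxw, hxu, hyw, hyu,
    by rw [S.symm]; exact huw⟩

theorem vals {x y w u : Vec} (Φ : Fr F₀ B x y w u) :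
    (B y x = 0 ∧ B w x = 0 ∧ B u x = 1 ∧ B w y = 1 ∧ B u y = 0 ∧ B u w = 0) ∧
      (B x y = 0 ∧ B x w = 0 ∧ B x u = 1 ∧ B y w = 1 ∧ B y u = 0 ∧ B w u = 0) := by
  refine ⟨⟨?_, ?_, ?_, ?_, ?_, ?_⟩, Φ.xy, Φ.xw, Φ.xu, Φ.yw, Φ.yu, Φ.wu⟩ <;> rw [S.symm]
  exacts [Φ.xy, Φ.xw, Φ.xu, Φ.yw, Φ.yu, Φ.wu]

theorem frame_ne_zero {x y w u : Vec} (Φ : Fr F₀ B x y w u) : x ≠ 0 ∧ y ≠ 0 := by
  constructor
  · rintro rfl; simpa using Φ.xu
  · rintro rfl; simpa using Φ.yw

/-- Coordinates with respect to a frame. -/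
theorem decomp {x y w u : Vec} (Φ : Fr F₀ B x y w u) (z : Vec) :
    z = B z u • x + B z w • y + B z y • w + B z x • u := by
  obtain ⟨⟨a1, a2, a3, a4, a5, a6⟩, b1, b2, b3, b4, b5, b6⟩ := S.vals Φ
  have hli : LinearIndependent F ![x, y, w, u] := by
    rw [Fintype.linearIndependent_iff]
    intro c hc
    simp only [Fin.sum_univ_four, Matrix.cons_val_zero, Matrix.cons_val_one, Matrix.cons_val] at hc
    have e0 := congrArg (fun z => B z u) hc
    have e1 := congrArg (fun z => B z w) hc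
    have e2 := congrArg (fun z => B z y) hc
    have e3 := congrArg (fun z => B z x) hc
    simp [S.alt, a1, a2, a3, a4, a5, a6, b1, b2, b3, b4, b5, b6] at e0 e1 e2 e3
    intro i
    fin_cases i <;> assumption
  have htop := hli.span_eq_top_of_card_eq_finrank (by rw [Module.finrank_fintype_fun_eq_card, S.card]; rfl)
  have hz : z ∈ Submodule.span F (Set.range ![x, y, w, u]) := htop ▸ Submodule.mem_top
  obtain ⟨c, hc⟩ := Submodule.mem_span_range_iff_exists_fun F |>.1 hz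
  rw [← hc]
  simp [Fin.sum_univ_four, S.alt, a1, a2, a3, a4, a5, a6, b1, b2, b3, b4, b5, b6]

/-- The form in coordinates. -/
theorem form_eq {x y w u : Vec} (Φ : Fr F₀ B x y w u) (z z' : Vec) :
    B z z' = B z u * B z' x + B z x * B z' u + B z w * B z' y + B z y * B z' w := by
  conv_lhs => rw [S.decomp Φ z]
  simp only [map_add, map_smul, LinearMap.add_apply, LinearMap.smul_apply, smul_eq_mul,
    S.symm x z', S.symm y z', S.symm w z', S.symm u z']
  ring

/-- Two rational frames are related by an element of the group. -/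
theorem frame_map [Finite F] {x y w u x' y' w' u' : Vec} (Φ : Fr F₀ B x y w u)
    (Ψ : Fr F₀ B x' y' w' u') :
    ∃ h ∈ M, (∀ i j, (h : Mat) i j ∈ F₀) ∧ glEquiv h x = x' ∧ glEquiv h y = y' ∧ glEquiv h w = w' ∧
      glEquiv h u = u' := by
  obtain ⟨⟨a1, a2, a3, a4, a5, a6⟩, b1, b2, b3, b4, b5, b6⟩ := S.vals Φ
  obtain ⟨⟨c1, c2, c3, c4, c5, c6⟩, d1, d2, d3, d4, d5, d6⟩ := S.vals Ψ
  let L : Vec →ₗ[F] Vec :=
    (B.flip u).smulRight x' + (B.flip w).smulRight y' + (B.flip y).smulRight w' +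
      (B.flip x).smulRight u'
  have hL : ∀ z, L z = B z u • x' + B z w • y' + B z y • w' + B z x • u' := fun z => rfl
  have hco : ∀ z, B (L z) u' = B z u ∧ B (L z) w' = B z w ∧ B (L z) y' = B z y ∧ B (L z) x' = B z x :=
    fun z => by simp [hL, S.alt, c1, c2, c3, c4, c5, c6, d1, d2, d3, d4, d5, d6]
  have hinj : Function.Injective L := by
    rw [← LinearMap.ker_eq_bot, LinearMap.ker_eq_bot']
    intro z hz
    obtain ⟨e1, e2, e3, e4⟩ := hco z
    rw [hz, map_zero, LinearMap.zero_apply] at e1 e2 e3 e4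
    rw [S.decomp Φ z, ← e1, ← e2, ← e3, ← e4]
    simp
  obtain ⟨h, hh⟩ := (glEquiv (F := F) (ι := ι)).surjective (LinearEquiv.ofInjectiveEndo L hinj)
  have happ : ∀ z, (h : Mat) *ᵥ z = L z := fun z => by
    rw [← glEquiv_apply, hh]; rfl
  have hrat : ∀ i j, (h : Mat) i j ∈ F₀ := by
    intro i j
    have e := congrFun (happ (Pi.single j 1)) i
    rw [mulVec_single_one, hL] at e
    rw [show (h : Mat) i j = _ from e]
    simp only [Pi.add_apply, Pi.smul_apply, smul_eq_mul]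
    have hs : Rat F₀ (Pi.single j (1 : F) : Vec) := Rat.single j (one_mem _)
    exact add_mem (add_mem (add_mem (mul_mem (S.rat _ _ hs Φ.hu) (Ψ.hx i))
      (mul_mem (S.rat _ _ hs Φ.hw) (Ψ.hy i))) (mul_mem (S.rat _ _ hs Φ.hy) (Ψ.hw i)))
      (mul_mem (S.rat _ _ hs Φ.hx) (Ψ.hu i))
  refine ⟨h, S.hR h hrat fun p q => ?_, hrat, ?_, ?_, ?_, ?_⟩
  · rw [happ, happ, S.form_eq Ψ (L p) (L q), S.form_eq Φ p q]
    simp only [hco]
  all_goals rw [glEquiv_apply, happ, hL]
  all_goals simp [S.alt, a1, a2, a3, a4, a5, a6, b1, b2, b3, b4, b5, b6]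

/-- A parameter at one frame is a parameter at all frames. -/
theorem of_one [Finite F] {x y w u : Vec} (Φ : Fr F₀ B x y w u) {r s α : F} {g : GL ι F}
    (hg : g ∈ M) (ha : Acts x y w u r s α (glEquiv g)) : InP F₀ B M r s α := by
  intro x' y' w' u' Ψ
  obtain ⟨h, hh, -, hx, hy, hw, hu⟩ := S.frame_map Φ Ψ
  refine ⟨h * g * h⁻¹, M.mul_mem (M.mul_mem hh hg) (M.inv_mem hh), ?_⟩
  have hC : ∀ z, glEquiv (h * g * h⁻¹) (glEquiv h z) = glEquiv h (glEquiv g z) := fun z => by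
    simp only [glEquiv_apply, gl_mul_mulVec, gl_inv_mulVec]
  refine ⟨?_, ?_, ?_, ?_⟩
  · rw [← hx, hC, ha.fx]
  · rw [← hy, hC, ha.fy, map_add, map_smul, hx]
  · rw [← hw, hC, ha.fw, map_add, map_smul, hx]
  · rw [← hu, hC, ha.fu, map_add, map_add, map_add, map_smul, map_smul, map_smul, hx, hy, hw]

end Setting

/-- Change of the names of the parameters. -/
theorem InP.cast {r s α r' s' α' : F} (h : InP F₀ B M r s α) (h1 : r = r') (h2 : s = s')
    (h3 : α = α') : InP F₀ B M r' s' α' := by subst h1 h2 h3; exact h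

/-- Products. -/
theorem InP.mul {r s α r' s' α' : F} (h : InP F₀ B M r s α) (h' : InP F₀ B M r' s' α') :
    InP F₀ B M (r + r') (s + s') (α + α' + (r' * s + s' * r)) := fun x y w u Φ => by
  obtain ⟨g, hg, ha⟩ := h x y w u Φ
  obtain ⟨g', hg', ha'⟩ := h' x y w u Φ
  exact ⟨g * g', M.mul_mem hg hg', by rw [map_mul]; exact ha.mul ha'⟩

namespace Setting

variable (S : Setting F₀ B M)
include S

theorem fr_yw {x y w u : Vec} (Φ : Fr F₀ B x y w u) : Fr F₀ B x w y u := by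
  obtain ⟨⟨a1, a2, a3, a4, a5, a6⟩, -⟩ := S.vals Φ
  exact ⟨Φ.hx, Φ.hw, Φ.hy, Φ.hu, Φ.xw, Φ.xy, Φ.xu, a4, Φ.wu, Φ.yu⟩

theorem fr_swap {x y w u : Vec} (Φ : Fr F₀ B x y w u) : Fr F₀ B y x u w := by
  obtain ⟨⟨a1, a2, a3, a4, a5, a6⟩, -⟩ := S.vals Φ
  exact ⟨Φ.hy, Φ.hx, Φ.hu, Φ.hw, a1, Φ.yu, Φ.yw, Φ.xu, Φ.xw, a6⟩

/-- Exchanging the two short parameters. -/
theorem swap {r s α : F} (h : InP F₀ B M r s α) : InP F₀ B M s r α := fun x y w u Φ => by
  obtain ⟨g, hg, ha⟩ := h x w y u (S.fr_yw Φ)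
  exact ⟨g, hg, ha.fx, ha.fw, ha.fy, by rw [ha.fu]; module⟩

/-- Rational parameters occur. -/
theorem rational [Finite F] {r s α : F} (hr : r ∈ F₀) (hs : s ∈ F₀) (hα : α ∈ F₀) :
    InP F₀ B M r s α := fun x y w u Φ => by
  obtain ⟨⟨a1, a2, a3, a4, a5, a6⟩, b1, b2, b3, b4, b5, b6⟩ := S.vals Φ
  have Ψ : Fr F₀ B x (y + s • x) (w + r • x) (u + α • x + r • y + s • w) := by
    refine ⟨Φ.hx, fun i => add_mem (Φ.hy i) (mul_mem hs (Φ.hx i)),
      fun i => add_mem (Φ.hw i) (mul_mem hr (Φ.hx i)),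
      fun i => add_mem (add_mem (add_mem (Φ.hu i) (mul_mem hα (Φ.hx i))) (mul_mem hr (Φ.hy i)))
        (mul_mem hs (Φ.hw i)), ?_, ?_, ?_, ?_, ?_, ?_⟩ <;>
    simp [S.alt, a1, a2, a3, a4, a5, a6, b1, b2, b3, b4, b5, b6]
    · linear_combination s * S.two
    · linear_combination r * S.two
  obtain ⟨h, hh, -, hx, hy, hw, hu⟩ := S.frame_map Φ Ψ
  exact ⟨h, hh, hx, hy, hw, hu⟩

/-- Rational changes of the pair `y, w`. -/
theorem shear [Finite F] {r s α t : F} (ht : t ∈ F₀) (h : InP F₀ B M r s α) :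
    InP F₀ B M r (s + t * r) α := fun x y w u Φ => by
  obtain ⟨⟨a1, a2, a3, a4, a5, a6⟩, b1, b2, b3, b4, b5, b6⟩ := S.vals Φ
  have Ψ : Fr F₀ B x (y + t • w) w u := by
    refine ⟨Φ.hx, fun i => add_mem (Φ.hy i) (mul_mem ht (Φ.hw i)), Φ.hw, Φ.hu, ?_, b2, b3, ?_, ?_, b6⟩ <;>
    simp [S.alt, a1, a2, a3, a4, a5, a6, b1, b2, b3, b4, b5, b6]
  obtain ⟨g, hg, ha⟩ := h _ _ _ _ Ψ
  have e := ha.fy
  rw [map_add, map_smul, ha.fw] at e
  refine ⟨g, hg, ha.fx, ?_, ha.fw, ?_⟩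
  · linear_combination (norm := module) e - S.vv ((t * r) • x)
  · rw [ha.fu]; module

/-- Conjugation by a long pair. -/
theorem pair [Finite F] {r l r' s α : F} (h : InP F₀ B M r 0 l) (h' : InP F₀ B M r' s α) :
    InP F₀ B M (r' + l * s) s α := fun x y w u Φ => by
  haveI := S.charP
  obtain ⟨g, hg, ha⟩ := h' x y w u Φ
  obtain ⟨g1, hg1, h1⟩ := h x y w u Φ
  obtain ⟨g2, hg2, h2⟩ := h y x u w (S.fr_swap Φ)
  have bx : glEquiv (g1 * g2) x = x := by
    rw [map_mul]; show glEquiv g1 (glEquiv g2 x) = x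
    rw [h2.fy, zero_smul, add_zero, h1.fx]
  have by' : glEquiv (g1 * g2) y = y := by
    rw [map_mul]; show glEquiv g1 (glEquiv g2 y) = y
    rw [h2.fx, h1.fy, zero_smul, add_zero]
  have bw : glEquiv (g1 * g2) w = w + l • y := by
    rw [map_mul]; show glEquiv g1 (glEquiv g2 w) = _
    rw [h2.fu]
    simp only [map_add, map_smul, map_zero, zero_smul, add_zero, h1.fw, h1.fy, h1.fx]
    linear_combination (norm := module) r • S.vv x
  have bu : glEquiv (g1 * g2) u = u + l • x := by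
    rw [map_mul]; show glEquiv g1 (glEquiv g2 u) = _
    rw [h2.fw]
    simp only [map_add, map_smul, zero_smul, add_zero, h1.fu, h1.fy]
    linear_combination (norm := module) r • S.vv y
  have hM : g1 * g2 ∈ M := M.mul_mem hg1 hg2
  refine ⟨(g1 * g2) * g * (g1 * g2)⁻¹, M.mul_mem (M.mul_mem hM hg) (M.inv_mem hM), ?_⟩
  rw [map_mul, map_mul _ (g1 * g2) g, map_inv]
  exact ha.conj_y bx by' bw bu

theorem pair' [Finite F] {r l r' s α : F} (h : InP F₀ B M r 0 l) (h' : InP F₀ B M r' s α) :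
    InP F₀ B M r' (s + l * r') α :=
  S.swap (S.pair h (S.swap h'))

/-- A short parameter together with its square. -/
theorem rule [Finite F] {r s α : F} (h : InP F₀ B M r s α) : InP F₀ B M r 0 (r * r) :=
  S.swap ((((S.shear (one_mem _) h).mul h)).cast (by linear_combination r * S.two)
    (by linear_combination s * S.two) (by linear_combination (α + r * s) * S.two))

theorem mem_of_sq [Finite F] {z : F} (h : z * z ∈ F₀) : z ∈ F₀ := by
  have h2 : (2 : F₀) = 0 := Subtype.ext S.two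
  have hc : ringChar F₀ = 2 := ringChar.eq_iff.2 ((CharP.charP_iff_prime_eq_zero Nat.prime_two).2 h2)
  obtain ⟨b, hb⟩ := FiniteField.isSquare_of_char_two hc ⟨z * z, h⟩
  have hb' : z * z = (b : F) * b := congrArg Subtype.val hb
  rcases mul_self_eq_mul_self_iff.1 hb' with h' | h'
  · exact h' ▸ b.2
  · exact h' ▸ neg_mem b.2

/-- An irrational short parameter gives an irrational long one. -/
theorem descent [Finite F] {r s α : F} (h : InP F₀ B M r s α) (hr : r ∉ F₀) :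
    ∃ κ, κ ∉ F₀ ∧ InP F₀ B M 0 0 κ := by
  have e1 := S.rule h
  have step : ∀ q, InP F₀ B M q 0 (q * q) →
      InP F₀ B M (r * r * q) 0 (r * r * q * (r * r * q)) ∧
        InP F₀ B M 0 0 (r * r * (1 + r * r) * (q * q)) := by
    intro q hq
    have hq' := S.swap hq
    have h1 := ((S.pair e1 hq').mul hq').cast (r' := r * r * q) (s' := 0) (α' := r * r * q * q)
      (by ring) (by linear_combination q * S.two) (by linear_combination (q * q) * S.two)
    have h2 := S.rule h1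
    exact ⟨h2, (h1.mul h2).cast (by linear_combination (r * r * q) * S.two) (add_zero _) (by ring)⟩
  obtain ⟨h3, k1⟩ := step r e1
  obtain ⟨-, k2⟩ := step (r * r * r) h3
  by_contra hcon
  push Not at hcon
  have m1 : r * r * (1 + r * r) * (r * r) ∈ F₀ := by
    by_contra hm
    exact hcon _ hm k1
  have m2 : r * r * (1 + r * r) * (r * r * r * (r * r * r)) ∈ F₀ := by
    by_contra hm
    exact hcon _ hm k2
  have hr0 : r ≠ 0 := fun e => hr (e ▸ zero_mem F₀)
  have h10 : 1 + r * r ≠ 0 := fun e => hr (S.mem_of_sq (by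
    rw [show r * r = -1 by linear_combination e]; exact neg_mem (one_mem _)))
  apply hr
  apply S.mem_of_sq
  apply S.mem_of_sq
  have hm := div_mem m2 m1
  convert hm using 1
  rw [eq_div_iff (mul_ne_zero (mul_ne_zero (mul_ne_zero hr0 hr0) h10) (mul_ne_zero hr0 hr0))]
  ring

end Setting

end Cfsg.Agent.Lib.SpFourEven23.Subfield
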