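import Mathlib.Algebra.CharP.Two
import Mathlib.FieldTheory.Finite.Basic
import Cfsg.Agent.Lib.K41.ExtForm.Alg
import Cfsg.Agent.Lib.ExtFieldMax.Stab

/-!
Four-dimensional symplectic spaces in characteristic two seen as planes over a quadratic extension:
a group of isometries containing the linear ones and an element that is not semilinear contains all
transvections.
Owner: helper23.
-/
set_option autoImplicit false
set_option linter.unusedSectionVars false

namespace Cfsg.Agent.Lib.SpFourEven23.Ext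

open Module Cfsg.Agent.Lib.ExtFieldMax Cfsg.Agent.Lib.K41.ExtForm

section Local

variable {F V : Type*} [Field F] [AddCommGroup V] [Module F V]

/-- The effect of an element of the radical of the stabiliser of `x` on a symplectic basis. -/
structure Acts (x y w u : V) (r s α : F) (g : V ≃ₗ[F] V) : Prop where
  fx : g x = x
  fy : g y = y + s • x
  fw : g w = w + r • x
  fu : g u = u + α • x + r • y + s • w

theorem Acts.mul {x y w u : V} {r s α r' s' α' : F} {g g' : V ≃ₗ[F] V}
    (hg : Acts x y w u r s α g) (hg' : Acts x y w u r' s' α' g') :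
    Acts x y w u (r + r') (s + s') (α + α' + (r' * s + s' * r)) (g * g') := by
  refine ⟨?_, ?_, ?_, ?_⟩ <;> show g (g' _) = _
  · rw [hg'.fx, hg.fx]
  · simp only [hg'.fy, map_add, map_smul, hg.fx, hg.fy]; module
  · simp only [hg'.fw, map_add, map_smul, hg.fx, hg.fw]; module
  · simp only [hg'.fu, map_add, map_smul, hg.fx, hg.fy, hg.fw, hg.fu]; module

theorem Acts.conj_w [CharP F 2] {x y w u : V} {r s α t β : F} {g B : V ≃ₗ[F] V}
    (hg : Acts x y w u r s α g) (bx : B x = x) (bw : B w = w) (by' : B y = y + t • w)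
    (bu : B u = u + β • x) : Acts x y w u r (s + t * r) α (B * g * B⁻¹) := by
  have hC : ∀ z, (B * g * B⁻¹) (B z) = B (g z) := fun z => by
    show B (g (B⁻¹ (B z))) = _
    rw [inv_apply_self]
  have cx : (B * g * B⁻¹) x = x := by
    have h := hC x; rwa [bx, hg.fx, bx] at h
  have cw : (B * g * B⁻¹) w = w + r • x := by
    have h := hC w; rwa [bw, hg.fw, map_add, map_smul, bw, bx] at h
  refine ⟨cx, ?_, cw, ?_⟩
  · have h := hC y
    rw [by', hg.fy, map_add, map_smul, cw, map_add, map_smul, bx, by'] at h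
    have h2 : s + t * r = s - t * r := (CharTwo.sub_eq_add _ _).symm
    rw [h2]
    linear_combination (norm := module) h
  · have h := hC u
    rw [bu, hg.fu] at h
    simp only [map_add, map_smul, cx, bx, bw, by', bu] at h
    linear_combination (norm := module) h

theorem Acts.conj_y [CharP F 2] {x y w u : V} {r s α t β : F} {g B : V ≃ₗ[F] V}
    (hg : Acts x y w u r s α g) (bx : B x = x) (by' : B y = y) (bw : B w = w + t • y)
    (bu : B u = u + β • x) : Acts x y w u (r + t * s) s α (B * g * B⁻¹) := by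
  have hs : Acts x w y u s r α g := ⟨hg.fx, hg.fw, hg.fy, by rw [hg.fu]; module⟩
  have h := hs.conj_w (B := B) bx by' bw bu
  exact ⟨h.fx, h.fw, h.fy, by rw [h.fu]; module⟩

variable (f : V →ₗ[F] V →ₗ[F] F)

/-- A symplectic basis with the form pairing `x, u` and `w, y`. -/
structure Frame (x y w u : V) : Prop where
  span : ∀ z, ∃ a b c d : F, z = a • x + b • y + c • w + d • u
  xy : f x y = 0
  xw : f x w = 0
  wy : f w y = 1
  ux : f u x = 1
  uy : f u y = 0
  uw : f u w = 0

end Local

variable {F K V : Type*} [Field F] [Field K] [Algebra F K] [AddCommGroup V] [Module F V]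
  [Module K V] [IsScalarTower F K V] [Finite F] [Finite K] [Finite V]

/-- The standing data. -/
structure Data (F K V : Type*) [Field F] [Field K] [Algebra F K] [AddCommGroup V] [Module F V]
    [Module K V] where
  ω : V → V → K
  f : V →ₗ[F] V →ₗ[F] F
  hf : ∀ x y, f x y = Algebra.trace F K (ω x y)
  add_left : ∀ x y z, ω (x + y) z = ω x z + ω y z
  smul_left : ∀ (c : K) (x z : V), ω (c • x) z = c * ω x z
  add_right : ∀ x y z, ω x (y + z) = ω x y + ω x z
  smul_right : ∀ (c : K) (x z : V), ω x (c • z) = c * ω x z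
  alt : ∀ x, ω x x = 0
  nondeg : ∀ x, (∀ y, f x y = 0) → x = 0
  dim : finrank F V = 4
  deg : finrank F K = 2
  M : Subgroup (V ≃ₗ[F] V)
  iso : ∀ g ∈ M, ∀ x y, f (g x) (g y) = f x y
  lin_mem : ∀ g : V ≃ₗ[F] V, (∀ (c : K) x, g (c • x) = c • g x) →
    (∀ x y, f (g x) (g y) = f x y) → g ∈ M

namespace Data

variable (S : Data F K V)

theorem skew (x y : V) : S.ω x y = - S.ω y x := by
  have h := S.alt (x + y)
  rw [S.add_left, S.add_right, S.add_right, S.alt, S.alt] at h
  linear_combination h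

theorem f_alt (x : V) : S.f x x = 0 := by rw [S.hf, S.alt, map_zero]

theorem f_symm [CharP F 2] (x y : V) : S.f x y = S.f y x := by
  rw [S.hf, S.hf, S.skew, map_neg, CharTwo.neg_eq]

theorem f_smul_self (c d : K) (x : V) : S.f (c • x) (d • x) = 0 := by
  rw [S.hf, S.smul_left, S.smul_right, S.alt, mul_zero, mul_zero, map_zero]

/-- The linear root elements. -/
noncomputable def rootK (e : V) (c : K) : V ≃ₗ[F] V :=
  unip { toFun := fun z => (c * S.ω z e) • e
         map_add' := fun x y => by rw [S.add_left, mul_add, add_smul]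
         map_smul' := fun t x => by
           rw [← algebraMap_smul K t x, S.smul_left, RingHom.id_apply, ← algebraMap_smul K t ((c * _) • e),
             smul_smul, mul_left_comm] }
    fun z => by
      show (c * S.ω ((c * S.ω z e) • e) e) • e = 0
      rw [S.smul_left, S.alt, mul_zero, mul_zero, zero_smul]

theorem rootK_apply (e : V) (c : K) (z : V) : S.rootK e c z = z + (c * S.ω z e) • e := rfl

theorem rootK_mem (e : V) (c : K) : S.rootK e c ∈ S.M := by
  refine S.lin_mem _ (fun d x => ?_) fun x y => ?_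
  · rw [rootK_apply, rootK_apply, S.smul_left, smul_add, smul_smul, mul_left_comm]
  · rw [S.hf, S.hf, rootK_apply, rootK_apply]
    simp only [S.add_left, S.add_right, S.smul_left, S.smul_right, S.alt, S.skew e y]
    congr 1
    ring

theorem rootK_fix {e z : V} (c : K) (h : S.ω z e = 0) : S.rootK e c z = z := by
  rw [rootK_apply, h, mul_zero, zero_smul, add_zero]

/-- The linear isometries are transitive on non-zero vectors. -/
theorem exists_move {x y : V} (hx : x ≠ 0) (hy : y ≠ 0) : ∃ g ∈ S.M, g x = y := by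
  have step : ∀ x y : V, S.ω x y ≠ 0 → ∃ g ∈ S.M, g x = y := by
    intro x y hxy
    refine ⟨S.rootK (y - x) (S.ω x y)⁻¹, S.rootK_mem _ _, ?_⟩
    rw [rootK_apply, sub_eq_add_neg, ← neg_one_smul K x, S.add_right, S.smul_right, S.alt, mul_zero,
      add_zero, inv_mul_cancel₀ hxy, one_smul]
    simp
  have hex : ∀ {x : V}, x ≠ 0 → ∃ a, S.ω x a ≠ 0 := fun {x} hx => by
    by_contra h
    push Not at h
    exact hx (S.nondeg x fun z => by rw [S.hf, h, map_zero])
  obtain ⟨a, ha⟩ := hex hx
  obtain ⟨b, hb⟩ := hex hy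
  obtain ⟨z, hz1, hz2⟩ : ∃ z, S.ω x z ≠ 0 ∧ S.ω z y ≠ 0 := by
    by_cases h1 : S.ω y a = 0
    · by_cases h2 : S.ω x b = 0
      · refine ⟨a + b, by simpa [S.add_right, h2] using ha, ?_⟩
        rw [S.skew, S.add_right, h1]; simpa using hb
      · exact ⟨b, h2, by rw [S.skew]; simpa using hb⟩
    · exact ⟨a, ha, by rw [S.skew]; simpa using h1⟩
  obtain ⟨g, hg, hgx⟩ := step x z hz1
  obtain ⟨k, hk, hkz⟩ := step z y hz2
  exact ⟨k * g, S.M.mul_mem hk hg, by show k (g x) = y; rw [hgx, hkz]⟩

include S in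
/-- The lines over the extension are not all preserved by an element that is not semilinear. -/
theorem exists_moved_line {g : V ≃ₗ[F] V} (hg : ¬ IsSemi F K g) :
    ∃ (e : V) (c : K), e ≠ 0 ∧ g (c • e) ∉ Submodule.span K {g e} := by
  by_contra hcon
  push Not at hcon
  refine hg (isSemi_of_lines ?_ g fun c v => ?_)
  · have := Module.finrank_mul_finrank F K V
    rw [S.deg, S.dim] at this
    omega
  · rcases eq_or_ne v 0 with rfl | hv
    · simp
    · exact hcon v c hv

/-- A transvection in the group. -/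
theorem exists_transvection [CharP F 2] (h3 : ∀ a : F, ∃ t : F, t ≠ 0 ∧ t ≠ a) {g : V ≃ₗ[F] V}
    (hg : g ∈ S.M) (hns : ¬ IsSemi F K g) :
    ∃ (x : V) (σ : F), x ≠ 0 ∧ σ ≠ 0 ∧ ∃ k ∈ S.M, ∀ z, k z = z + (σ * S.f z x) • x := by
  haveI : FiniteDimensional F V := Module.Finite.of_finite
  obtain ⟨e, k₁, he, hk₁⟩ := S.exists_moved_line hns
  obtain ⟨x, hx⟩ : ∃ x, x = g e := ⟨_, rfl⟩
  rw [← hx] at hk₁
  have hx0 : x ≠ 0 := fun h => he (g.map_eq_zero_iff.1 (hx ▸ h))
  -- `y` on the line of `x`
  obtain ⟨θ, hθ⟩ := exists_not_range (F := F) (K := K) (by rw [S.deg]; exact Nat.prime_two)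
  obtain ⟨y, hy⟩ : ∃ y, y = θ • x := ⟨_, rfl⟩
  obtain ⟨w', hw'⟩ : ∃ w', w' = g (k₁ • e) := ⟨_, rfl⟩
  rw [← hw'] at hk₁
  have hyx : S.f x y = 0 := by
    rw [hy, ← one_smul K x, smul_smul, mul_one]; exact S.f_smul_self 1 θ x
  have hwx : S.f x w' = 0 := by
    rw [hx, hw', S.iso g hg, ← one_smul K e, smul_smul, mul_one]; exact S.f_smul_self 1 k₁ e
  have hωw : S.ω w' x ≠ 0 := by
    intro h0
    have hkey : ∀ z, z ∈ Submodule.span K {x} ↔ S.ω z x = 0 := by
      intro z
      constructor
      · intro hz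
        obtain ⟨c, rfl⟩ := Submodule.mem_span_singleton.1 hz
        rw [S.smul_left, S.alt, mul_zero]
      · intro hz
        haveI : FiniteDimensional K V := Module.Finite.of_finite
        have h2 : finrank K V = 2 := by
          have := Module.finrank_mul_finrank F K V
          rw [S.deg, S.dim] at this
          omega
        let φ : V →ₗ[K] K :=
          { toFun := fun z => S.ω z x, map_add' := fun a b => S.add_left a b x,
            map_smul' := fun c z => S.smul_left c z x }
        have hφ : φ ≠ 0 := fun h => hx0 (S.nondeg x fun v => by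
          rw [S.hf, S.skew, show S.ω v x = 0 from LinearMap.congr_fun h v, neg_zero, map_zero])
        have hker := Module.Dual.finrank_ker_add_one_of_ne_zero hφ
        have hle : Submodule.span K {x} ≤ LinearMap.ker φ := by
          rw [Submodule.span_singleton_le_iff_mem]; exact S.alt x
        have heq := Submodule.eq_of_le_of_finrank_le hle (by
          rw [finrank_span_singleton hx0]; omega)
        rw [heq]; exact hz
    exact hk₁ ((hkey _).2 h0)
  have hfwy : S.f w' y ≠ 0 := by
    intro h0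
    apply hωw
    have h1 : ∀ c : K, Algebra.trace F K (c * S.ω w' x) = 0 := by
      intro c
      obtain ⟨a, b, rfl⟩ : ∃ a b : F, algebraMap F K a + algebraMap F K b * θ = c := by
        haveI : FiniteDimensional F K := Module.Finite.of_finite
        have hli : LinearIndependent F ![(1 : K), θ] := by
          rw [LinearIndependent.pair_iff' one_ne_zero]
          intro a ha
          exact hθ ⟨a, by rw [← ha, Algebra.algebraMap_eq_smul_one]⟩
        have htop := hli.span_eq_top_of_card_eq_finrank (by rw [S.deg]; rfl)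
        have hc : c ∈ Submodule.span F (Set.range ![(1 : K), θ]) := htop ▸ Submodule.mem_top
        rw [Matrix.range_cons_cons_empty, Submodule.mem_span_pair] at hc
        obtain ⟨a, b, hab⟩ := hc
        exact ⟨a, b, by rw [← hab, Algebra.smul_def, Algebra.smul_def, mul_one]⟩
      rw [add_mul, map_add, mul_assoc, ← Algebra.smul_def, ← Algebra.smul_def, map_smul, map_smul,
        ← S.smul_right θ, ← hy, ← S.hf, ← S.hf, h0, S.f_symm w' x, hwx, smul_zero, smul_zero, add_zero]
    exact trace_ext (F := F) fun c => by rw [h1, mul_zero, map_zero]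
  obtain ⟨w, hw⟩ : ∃ w, w = (S.f w' y)⁻¹ • w' := ⟨_, rfl⟩
  have hwy : S.f w y = 1 := by rw [hw, map_smul, LinearMap.smul_apply, smul_eq_mul, inv_mul_cancel₀ hfwy]
  have hxw : S.f x w = 0 := by rw [hw, map_smul, hwx, smul_zero]
  -- the fourth basis vector
  obtain ⟨u₀, hu₀⟩ : ∃ u₀, S.f u₀ x = 1 := by
    obtain ⟨v, hv⟩ : ∃ v, S.f x v ≠ 0 := by
      by_contra h
      push Not at h
      exact hx0 (S.nondeg x h)
    refine ⟨(S.f v x)⁻¹ • v, ?_⟩
    rw [map_smul, LinearMap.smul_apply, smul_eq_mul, inv_mul_cancel₀]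
    rwa [S.f_symm]
  obtain ⟨u, hu⟩ : ∃ u, u = u₀ + S.f u₀ w • y + S.f u₀ y • w := ⟨_, rfl⟩
  have hux : S.f u x = 1 := by
    simp [hu, hu₀, S.f_symm y x, hyx, S.f_symm w x, hxw]
  have huy : S.f u y = 0 := by
    simp [hu, S.f_alt, hwy, CharTwo.add_self_eq_zero]
  have huw : S.f u w = 0 := by
    simp [hu, S.f_alt, S.f_symm y w, hwy, CharTwo.add_self_eq_zero]
  have hspan : ∀ z, ∃ a b c d : F, z = a • x + b • y + c • w + d • u := by
    have hli : LinearIndependent F ![x, y, w, u] := by
      rw [Fintype.linearIndependent_iff]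
      intro c hc
      simp only [Fin.sum_univ_four, Matrix.cons_val_zero, Matrix.cons_val_one, Matrix.cons_val] at hc
      have e3 := congrArg (fun z => S.f z x) hc
      have e1 := congrArg (fun z => S.f z w) hc
      have e2 := congrArg (fun z => S.f z y) hc
      simp [S.f_alt, S.f_symm y x, hyx, S.f_symm w x, hxw, hux] at e3
      simp [S.f_alt, hxw, S.f_symm y w, hwy, huw] at e1
      simp [S.f_alt, hyx, hwy, huy] at e2
      rw [e1, e2, e3, zero_smul, zero_smul, zero_smul, add_zero, add_zero, add_zero] at hc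
      have e0 := (smul_eq_zero.1 hc).resolve_right hx0
      intro i
      fin_cases i <;> assumption
    intro z
    have htop := hli.span_eq_top_of_card_eq_finrank (by rw [S.dim]; rfl)
    have hz : z ∈ Submodule.span F (Set.range ![x, y, w, u]) := htop ▸ Submodule.mem_top
    obtain ⟨c, hc⟩ := Submodule.mem_span_range_iff_exists_fun F |>.1 hz
    exact ⟨c 0, c 1, c 2, c 3, by rw [← hc]; simp [Fin.sum_univ_four]⟩
  have hfr : Frame S.f x y w u := ⟨hspan, hyx, hxw, hwy, hux, huy, huw⟩
  -- coordinates of the image of `u`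
  have himg : ∀ h ∈ S.M, h x = x → ∀ p q : F, ∃ α : F, (S.f (h u) y = p → S.f (h u) w = q →
      h u = u + α • x + q • y + p • w) := by
    intro h hh hhx p q
    obtain ⟨a, b, c, d, hd⟩ := hfr.span (h u)
    refine ⟨a, fun hp hq => ?_⟩
    have e3 : S.f (h u) x = 1 := by
      conv_lhs => rw [← hhx]
      rw [S.iso h hh, hux]
    rw [hd] at e3 hp hq
    simp [S.f_alt, S.f_symm y x, hyx, S.f_symm w x, hxw, hux] at e3
    simp [S.f_alt, hxw, S.f_symm y w, hwy, huw] at hq
    simp [S.f_alt, hyx, hwy, huy] at hp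
    rw [hd, e3, hp, hq, one_smul]
    abel
  -- an element moving `w` by `x`
  obtain ⟨α, A, hAM, hA⟩ : ∃ α, ∃ A ∈ S.M, Acts x y w u 1 0 α A := by
    have hωw2 : S.ω w x ≠ 0 := by
      rw [hw, ← algebraMap_smul K, S.smul_left]
      exact mul_ne_zero ((map_ne_zero _).2 (inv_ne_zero hfwy)) hωw
    set A := S.rootK x (S.ω w x)⁻¹
    have ax : A x = x := S.rootK_fix _ (S.alt x)
    have ay : A y = y := S.rootK_fix _ (by rw [hy, S.smul_left, S.alt, mul_zero])
    have aw : A w = w + x := by rw [rootK_apply, inv_mul_cancel₀ hωw2, one_smul]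
    have h1 : S.f (A u) y = 0 := by
      conv_lhs => rw [← ay]
      rw [S.iso A (S.rootK_mem _ _), huy]
    have h2 : S.f (A u) w = 1 := by
      have h := S.iso A (S.rootK_mem x (S.ω w x)⁻¹) u w
      have h' : S.f (A u) x = 1 := by
        conv_lhs => rw [← ax]
        rw [S.iso A (S.rootK_mem _ _), hux]
      rw [aw, map_add, h', huw] at h
      rw [CharTwo.add_eq_zero] at h
      exact h
    exact ⟨_, A, S.rootK_mem _ _, ax, by rw [ay, zero_smul, add_zero], by rw [aw, one_smul],
      (himg A (S.rootK_mem _ _) ax 0 1).choose_spec h1 h2⟩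
  -- elements moving `w` along `y`, and `y` along `w`
  have hBy : ∀ t : F, ∃ B ∈ S.M, ∃ β : F, B x = x ∧ B y = y ∧ B w = w + t • y ∧ B u = u + β • x := by
    intro t
    have hωw2 : S.ω w x ≠ 0 := by
      rw [hw, ← algebraMap_smul K, S.smul_left]
      exact mul_ne_zero ((map_ne_zero _).2 (inv_ne_zero hfwy)) hωw
    set B := S.rootK x (algebraMap F K t * θ * (S.ω w x)⁻¹)
    have hB : B ∈ S.M := S.rootK_mem _ _
    have bx : B x = x := S.rootK_fix _ (S.alt x)
    have byy : B y = y := S.rootK_fix _ (by rw [hy, S.smul_left, S.alt, mul_zero])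
    have bw : B w = w + t • y := by
      rw [rootK_apply, inv_mul_cancel_right₀ hωw2, mul_smul, algebraMap_smul, ← hy]
    have h1 : S.f (B u) y = 0 := by
      conv_lhs => rw [← byy]
      rw [S.iso B hB, huy]
    have h2 : S.f (B u) w = 0 := by
      have h := S.iso B hB u w
      rwa [bw, map_add, map_smul, h1, smul_zero, add_zero, huw] at h
    obtain ⟨β, hβ⟩ := himg B hB bx 0 0
    refine ⟨B, hB, β, bx, byy, bw, ?_⟩
    rw [hβ h1 h2, zero_smul, zero_smul, add_zero, add_zero]
  have hBw : ∀ t : F, ∃ B ∈ S.M, ∃ β : F, B x = x ∧ B w = w ∧ B y = y + t • w ∧ B u = u + β • x := by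
    intro t
    have hgi : g⁻¹ x = e := hx ▸ inv_apply_self g e
    have hωy : S.ω (g⁻¹ y) e ≠ 0 := by
      intro h0
      apply hfwy
      have h1 : S.f (g⁻¹ w') (g⁻¹ y) = S.f w' y := by
        have := S.iso g hg (g⁻¹ w') (g⁻¹ y)
        rw [apply_inv_self', apply_inv_self'] at this
        exact this.symm
      rw [← h1, hw', inv_apply_self, S.hf, S.smul_left, S.skew, h0, neg_zero, mul_zero, map_zero]
    obtain ⟨k, hk⟩ : ∃ k : K, k • e = g⁻¹ (t • w) :=
      ⟨algebraMap F K (t * (S.f w' y)⁻¹) * k₁, by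
        rw [mul_smul, algebraMap_smul, hw, map_smul, map_smul, hw', inv_apply_self, smul_smul]⟩
    set C := S.rootK e (k * (S.ω (g⁻¹ y) e)⁻¹)
    set B := g * C * g⁻¹
    have hB : B ∈ S.M := S.M.mul_mem (S.M.mul_mem hg (S.rootK_mem _ _)) (S.M.inv_mem hg)
    have bx : B x = x := by
      show g (C (g⁻¹ x)) = x
      rw [hgi, S.rootK_fix _ (S.alt e), ← hx]
    have bw : B w = w := by
      show g (C (g⁻¹ w)) = w
      rw [hw, map_smul, hw', inv_apply_self, map_smul, S.rootK_fix _ (by rw [S.smul_left, S.alt, mul_zero]),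
        map_smul]
    have byy : B y = y + t • w := by
      show g (C (g⁻¹ y)) = _
      rw [rootK_apply, inv_mul_cancel_right₀ hωy, hk, map_add, apply_inv_self', apply_inv_self']
    have h2 : S.f (B u) w = 0 := by
      conv_lhs => rw [← bw]
      rw [S.iso B hB, huw]
    have h1 : S.f (B u) y = 0 := by
      have h := S.iso B hB u y
      rwa [byy, map_add, map_smul, h2, smul_zero, add_zero, huy] at h
    obtain ⟨β, hβ⟩ := himg B hB bx 0 0
    refine ⟨B, hB, β, bx, bw, byy, ?_⟩
    rw [hβ h1 h2, zero_smul, zero_smul, add_zero, add_zero]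
  obtain ⟨t, ht0, hta⟩ := h3 α
  obtain ⟨B, hB, β, bx, bw, byy, bu⟩ := hBw t
  obtain ⟨B', hB', β', bx', byy', bw', bu'⟩ := hBy t⁻¹
  have g1 := hA.conj_w bx bw byy bu
  have g2 := g1.conj_y bx' byy' bw' bu'
  have g3 := (g2.mul hA).mul g1
  have hM1 : B * A * B⁻¹ ∈ S.M := S.M.mul_mem (S.M.mul_mem hB hAM) (S.M.inv_mem hB)
  have hM2 : B' * (B * A * B⁻¹) * B'⁻¹ ∈ S.M := S.M.mul_mem (S.M.mul_mem hB' hM1) (S.M.inv_mem hB')
  simp only [zero_add, add_zero, mul_one, one_mul, mul_zero, inv_mul_cancel₀ ht0,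
    CharTwo.add_self_eq_zero] at g3
  refine ⟨x, α + t, hx0, fun h => hta (CharTwo.add_eq_zero.1 h).symm, _,
    S.M.mul_mem (S.M.mul_mem hM2 hAM) hM1, fun z => ?_⟩
  obtain ⟨a, b, c, d, rfl⟩ := hspan z
  simp only [map_add, map_smul, g3.fx, g3.fy, g3.fw, g3.fu, LinearMap.add_apply, LinearMap.smul_apply,
    S.f_alt, S.f_symm y x, hyx, S.f_symm w x, hxw, hux, smul_eq_mul]
  match_scalars <;> first | ring1 | (ring_nf; simp [CharTwo.two_eq_zero])

/-- All transvections are in the group. -/
theorem transvection_mem [CharP F 2] (h3 : ∀ a : F, ∃ t : F, t ≠ 0 ∧ t ≠ a) {g : V ≃ₗ[F] V}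
    (hg : g ∈ S.M) (hns : ¬ IsSemi F K g) (v : V) (a : F) :
    ∃ k ∈ S.M, ∀ z, k z = z + (a * S.f z v) • v := by
  rcases eq_or_ne v 0 with rfl | hv
  · exact ⟨1, S.M.one_mem, fun z => by rw [smul_zero, add_zero]; rfl⟩
  obtain ⟨x, σ, hx, hσ, T, hT, hTz⟩ := S.exists_transvection h3 hg hns
  obtain ⟨b, hb⟩ := FiniteField.isSquare_of_char_two (F := F) (ringChar.eq F 2) (a / σ)
  rcases eq_or_ne b 0 with rfl | hb0
  · rw [mul_zero, div_eq_zero_iff, or_iff_left hσ] at hb
    exact ⟨1, S.M.one_mem, fun z => by rw [hb, zero_mul, zero_smul, add_zero]; rfl⟩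
  obtain ⟨k, hk, hkx⟩ := S.exists_move hx (smul_ne_zero hb0 hv)
  refine ⟨k * T * k⁻¹, S.M.mul_mem (S.M.mul_mem hk hT) (S.M.inv_mem hk), fun z => ?_⟩
  show k (T (k⁻¹ z)) = _
  rw [hTz, map_add, map_smul, apply_inv_self', ← S.iso k hk, apply_inv_self', hkx, map_smul, smul_smul,
    smul_eq_mul]
  rw [div_eq_iff hσ] at hb
  rw [hb]
  congr 2
  ring

end Data

end Cfsg.Agent.Lib.SpFourEven23.Ext
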