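import Mathlib.Algebra.Algebra.Subalgebra.IsSimpleOrder
import Cfsg.Agent.Lib.SpFourEven23.Calc

/-!
An irrational long parameter at a rational point gives all transvections.
Owner: helper23.
-/
set_option autoImplicit false
set_option linter.unusedSectionVars false

namespace Cfsg.Agent.Lib.SpFourEven23.Subfield

open Matrix Module Cfsg.Agent.Lib.Subspaces.Transvection Cfsg.Agent.Lib.SubfieldMax.Linear
  Cfsg.Agent.Lib.SpFourEven23.Ext Cfsg.Agent.Lib.K41.ExtForm

variable {ι : Type} [Fintype ι] [DecidableEq ι] {F : Type*} [Field F] [Finite F]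
  {F₀ : Subfield F} {B : (ι → F) →ₗ[F] (ι → F) →ₗ[F] F} {M : Subgroup (GL ι F)}

local notation "Vec" => ι → F

/-- The subgroup contains an irrational long parameter. -/
def Good (F₀ : Subfield F) (B : (ι → F) →ₗ[F] (ι → F) →ₗ[F] F) (M : Subgroup (GL ι F)) : Prop :=
  ∃ κ, κ ∉ F₀ ∧ InP F₀ B M 0 0 κ

namespace Setting

variable (S : Setting F₀ B M)
include S

theorem long_short {a : F} (h : InP F₀ B M 0 0 a) : InP F₀ B M a 0 0 := by
  have h1 := S.rational (r := 0) (s := 1) (α := 0) (zero_mem _) (one_mem _) (zero_mem _)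
  have h2 := ((S.pair h h1).mul h1).mul h
  exact h2.cast (by ring) (by linear_combination S.two) (by linear_combination a * S.two)

theorem short_sq {s : F} (h : InP F₀ B M s 0 0) : InP F₀ B M 0 0 (s * s) :=
  ((S.rule h).mul h).cast (by linear_combination s * S.two) (add_zero _) (by ring)

theorem long_sq {a : F} (h : InP F₀ B M 0 0 a) : InP F₀ B M 0 0 (a * a) := S.short_sq (S.long_short h)

theorem mixed {a s : F} (ha : InP F₀ B M 0 0 a) (hs : InP F₀ B M s 0 0) :
    InP F₀ B M (a * s) 0 (a * (s * s)) :=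
  ((S.pair ha (S.swap hs)).mul (S.swap hs)).cast (by ring) (by linear_combination s * S.two) (by ring)

theorem quad {a b : F} (ha : InP F₀ B M 0 0 a) (hb : InP F₀ B M 0 0 b) :
    InP F₀ B M 0 0 (a * (b * b) + b * (a * a)) :=
  ((S.mixed ha (S.long_short hb)).mul (S.mixed hb (S.long_short ha))).cast
    (by linear_combination (a * b) * S.two) (add_zero _) (by ring)

theorem key {a b : F} (ha : InP F₀ B M 0 0 a) (hb : InP F₀ B M 0 0 b) :
    InP F₀ B M 0 0 (a * a * (1 + a) * (b * b)) := by
  have h1 := S.rational (r := 1) (s := 0) (α := 0) (one_mem _) (zero_mem _) (zero_mem _)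
  have h2 := ((S.pair' ha (S.pair hb (S.pair' ha h1))).mul h1).cast
    (r' := a * b) (s' := a * a * b) (α' := a * a * b)
    (by linear_combination S.two) (by linear_combination a * S.two) (by linear_combination a * S.two)
  have h3 := S.swap (S.mixed (S.long_sq ha) (S.long_short hb))
  have h4 := (((h2.mul h3).mul (S.mixed ha (S.long_short hb))).mul (S.quad ha hb))
  exact h4.cast (by linear_combination (a * b) * S.two) (by linear_combination (a * a * b) * S.two)
    (by linear_combination (a * a * b + a * (b * b) + a * b * (a * a * b)) * S.two)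

theorem scale {a t : F} (ht : t ∈ F₀) (h : InP F₀ B M 0 0 a) : InP F₀ B M 0 0 (t * a) := by
  have h2 : (2 : F₀) = 0 := Subtype.ext S.two
  have hc : ringChar F₀ = 2 := ringChar.eq_iff.2 ((CharP.charP_iff_prime_eq_zero Nat.prime_two).2 h2)
  obtain ⟨c₀, hc₀⟩ := FiniteField.isSquare_of_char_two hc ⟨t, ht⟩
  obtain ⟨c, hc', rfl⟩ : ∃ c ∈ F₀, t = c * c := ⟨c₀, c₀.2, congrArg Subtype.val hc₀⟩
  rcases eq_or_ne c 0 with rfl | hc0
  · rw [zero_mul, zero_mul]; exact S.rational (zero_mem _) (zero_mem _) (zero_mem _)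
  intro x y w u Φ
  have Ψ : Fr F₀ B (c • x) y w (c⁻¹ • u) := by
    refine ⟨fun i => mul_mem hc' (Φ.hx i), Φ.hy, Φ.hw, fun i => mul_mem (inv_mem hc') (Φ.hu i),
      ?_, ?_, ?_, Φ.yw, ?_, ?_⟩ <;> simp [Φ.xy, Φ.xw, Φ.xu, Φ.yu, Φ.wu, hc0]
  obtain ⟨g, hg, ha⟩ := h _ _ _ _ Ψ
  refine ⟨g, hg, ?_, ?_, ?_, ?_⟩
  · exact smul_right_injective Vec hc0 (by
      show c • glEquiv g x = c • x
      rw [← map_smul]; exact ha.fx)
  · simpa using ha.fy
  · simpa using ha.fw
  · apply smul_right_injective Vec (inv_ne_zero hc0)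
    show c⁻¹ • glEquiv g u = c⁻¹ • _
    rw [← map_smul, ha.fu]
    match_scalars <;> (field_simp; try ring)

theorem mul_add_one {a : F} (h : InP F₀ B M 0 0 a) : InP F₀ B M 0 0 (a + 1) :=
  (h.mul (S.rational (r := 0) (s := 0) (α := 1) (zero_mem _) (zero_mem _) (one_mem _))).cast
    (add_zero _) (add_zero _) (by ring)

theorem long_all {r : ℕ} (hr : r.Prime) (hcard : Nat.card F = Nat.card F₀ ^ r) (hG : Good F₀ B M) (a : F) :
    InP F₀ B M 0 0 a := by
  haveI := S.charP
  obtain ⟨κ, hκ, hκM⟩ := hG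
  let D : Subalgebra F₀ F :=
    { carrier := {μ | ∀ a, InP F₀ B M 0 0 a → InP F₀ B M 0 0 (μ * a)}
      add_mem' := fun {x y} hx hy a ha => ((hx a ha).mul (hy a ha)).cast (add_zero _) (add_zero _) (by ring)
      mul_mem' := fun {x y} hx hy a ha => by rw [mul_assoc]; exact hx _ (hy a ha)
      algebraMap_mem' := fun t a ha => S.scale t.2 ha }
  have hrank : Module.finrank F₀ F = r := by
    have h1 := Module.natCard_eq_pow_finrank (K := F₀) (V := F)
    rw [hcard] at h1
    exact (Nat.pow_right_injective (Finite.one_lt_card (α := F₀)) h1).symm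
  haveI := Subalgebra.isSimpleOrder_of_finrank_prime F₀ F (hrank ▸ hr)
  -- every element is a square inside the set
  let L := {c : F // InP F₀ B M 0 0 c}
  let q : L → L := fun c => ⟨c.1 * c.1, S.long_sq c.2⟩
  have hq : Function.Surjective q := Finite.injective_iff_surjective.1 fun x y hxy => by
    have e : x.1 * x.1 = y.1 * y.1 := congrArg Subtype.val hxy
    rcases mul_self_eq_mul_self_iff.1 e with h | h
    · exact Subtype.ext h
    · exact Subtype.ext (h.trans (CharTwo.neg_eq _))
  have hkey : ∀ a, InP F₀ B M 0 0 a → a * a * (1 + a) ∈ D := by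
    intro a ha c hc
    obtain ⟨⟨b, hb⟩, hbc⟩ := hq ⟨c, hc⟩
    rw [← show b * b = c from congrArg Subtype.val hbc]
    exact S.key ha hb
  rcases eq_bot_or_eq_top D with hD | hD
  · exfalso
    have hF : ∀ x ∈ D, x ∈ F₀ := fun x hx => by
      rw [hD, Algebra.mem_bot] at hx
      obtain ⟨t, rfl⟩ := hx
      exact t.2
    have m1 := hF _ (hkey κ hκM)
    have m2 := hF _ (hkey _ (S.mul_add_one hκM))
    have he : κ * κ + κ ∈ F₀ := by
      convert add_mem m1 m2 using 1
      linear_combination -(κ * κ * κ + 2 * κ * κ + 2 * κ + 1) * S.two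
    have he' : κ * (κ * κ + κ) + (κ * κ + κ) ∈ F₀ := by
      convert m2 using 1
      linear_combination -(κ * κ + 2 * κ + 1) * S.two
    have hke := sub_mem he' he
    rw [add_sub_cancel_right] at hke
    rcases eq_or_ne (κ * κ + κ) 0 with h0 | h0
    · rw [show κ * κ + κ = κ * (κ + 1) by ring, mul_eq_zero] at h0
      rcases h0 with h0 | h0
      · exact hκ (h0 ▸ zero_mem _)
      · exact hκ (by rw [eq_neg_of_add_eq_zero_left h0]; exact neg_mem (one_mem _))
    · apply hκ
      have := div_mem hke he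
      rwa [mul_div_assoc, div_self h0, mul_one] at this
  · have h1 := (hD ▸ Algebra.mem_top : a ∈ D) 1
      (S.rational (zero_mem _) (zero_mem _) (one_mem _))
    rwa [mul_one] at h1

/-- All transvections. -/
theorem all_of_good {r : ℕ} (hr : r.Prime) (hcard : Nat.card F = Nat.card F₀ ^ r) (hG : Good F₀ B M)
    (v : Vec) (a : F) : ∃ k ∈ M, ∀ z, glEquiv k z = z + (a * B z v) • v := by
  haveI := S.charP
  have hL := S.long_all hr hcard hG
  let X : Set Vec := {v | ∀ a : F, ∃ k ∈ M, ∀ z, glEquiv k z = z + (a * B z v) • v}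
  have hsmul : ∀ v ∈ X, ∀ c : F, c • v ∈ X := by
    intro v hv c a
    obtain ⟨k, hk, hkz⟩ := hv (a * c * c)
    refine ⟨k, hk, fun z => ?_⟩
    rw [hkz, map_smul, smul_eq_mul, smul_smul]
    congr 2
    ring
  have hrat0 : ∀ v, Rat F₀ v → v ∈ X := by
    intro v hv a
    rcases eq_or_ne v 0 with rfl | hv0
    · exact ⟨1, M.one_mem, fun z => by rw [map_one, smul_zero, add_zero]; rfl⟩
    obtain ⟨y, w, u, Φ⟩ := S.exists_frame hv hv0
    obtain ⟨g, hg, ha⟩ := hL a v y w u Φ
    refine ⟨g, hg, fun z => ?_⟩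
    have hd := S.decomp Φ z
    calc glEquiv g z = glEquiv g (B z u • v + B z w • y + B z y • w + B z v • u) := by rw [← hd]
      _ = (B z u • v + B z w • y + B z y • w + B z v • u) + (a * B z v) • v := by
        simp only [map_add, map_smul, ha.fx, ha.fy, ha.fw, ha.fu]; module
      _ = z + (a * B z v) • v := by rw [← hd]
  have hstep : ∀ v ∈ X, ∀ g ∈ M, glEquiv g v ∈ X := by
    intro v hv g hg a
    obtain ⟨k, hk, hkz⟩ := hv a
    refine ⟨g * k * g⁻¹, M.mul_mem (M.mul_mem hg hk) (M.inv_mem hg), fun z => ?_⟩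
    have e := S.iso g hg (((g⁻¹ : GL ι F) : Matrix ι ι F) *ᵥ z) v
    rw [gl_mulVec_inv] at e
    simp only [glEquiv_apply] at hkz ⊢
    rw [gl_mul_mulVec, gl_mul_mulVec, hkz, mulVec_add, mulVec_smul, gl_mulVec_inv, e]
  have hadd : ∀ v ∈ X, ∀ z, Rat F₀ z → ∀ t : F, v + t • z ∈ X := by
    intro v hv z hz t
    rcases eq_or_ne z 0 with rfl | hz0
    · rw [smul_zero, add_zero]; exact hv
    by_cases hvz : B v z = 0
    · obtain ⟨y, w, u, Φ⟩ := S.exists_frame hz hz0
      have hd := S.decomp Φ v
      rw [hvz, zero_smul, add_zero] at hd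
      by_cases hq : B v y = 0
      · by_cases hp : B v w = 0
        · rw [hp, hq, zero_smul, zero_smul, add_zero, add_zero] at hd
          rw [hd, ← add_smul]
          exact hsmul z (hrat0 z hz) _
        · obtain ⟨g, hg, ha⟩ := S.swap (S.long_short (hL (t / B v w))) z y w u Φ
          have e : glEquiv g v = v + t • z := by
            conv_lhs => rw [hd]
            simp only [map_add, map_smul, ha.fx, ha.fy, ha.fw]
            conv_rhs => rw [hd]
            match_scalars <;> (field_simp; try ring)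
          exact e ▸ hstep v hv g hg
      · obtain ⟨g, hg, ha⟩ := S.long_short (hL (t / B v y)) z y w u Φ
        have e : glEquiv g v = v + t • z := by
          conv_lhs => rw [hd]
          simp only [map_add, map_smul, ha.fx, ha.fy, ha.fw]
          conv_rhs => rw [hd]
          match_scalars <;> (field_simp; try ring)
        exact e ▸ hstep v hv g hg
    · obtain ⟨g, hg, hgz⟩ := hrat0 z hz (t / B v z)
      have e : glEquiv g v = v + t • z := by rw [hgz, div_mul_cancel₀ _ hvz]
      exact e ▸ hstep v hv g hg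
  have hall : ∀ s : Finset ι, ∑ i ∈ s, v i • (Pi.single i 1 : Vec) ∈ X := by
    intro s
    induction s using Finset.induction_on with
    | empty => rw [Finset.sum_empty]; exact hrat0 0 fun _ => zero_mem _
    | insert i s hi ih =>
      rw [Finset.sum_insert hi, add_comm]
      exact hadd _ ih _ (Rat.single i (one_mem _)) _
  have hv : v = ∑ i, v i • (Pi.single i 1 : Vec) := by
    conv_lhs => rw [← Finset.univ_sum_single v]
    exact Finset.sum_congr rfl fun i _ => by rw [← Pi.single_smul, smul_eq_mul, mul_one]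
  have := hall Finset.univ a
  rwa [← hv] at this

end Setting

end Cfsg.Agent.Lib.SpFourEven23.Subfield
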