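import Cfsg.Agent.Lib.SpFourEven23.Rigid
import Cfsg.Agent.Lib.SubfieldMax.Mem
import Cfsg.Agent.Lib.Subspaces.SympGen

/-!
Extension-field and subfield subgroups of the four-dimensional symplectic groups in characteristic
two are maximal.
Owner: helper23.
-/
set_option autoImplicit false
set_option linter.unusedSectionVars false

open Cfsg Module Matrix Cfsg.Agent.Lib.K41.ExtForm Cfsg.Agent.Lib.ExtFieldMax
  Cfsg.Agent.Lib.Subspaces.Transvection Cfsg.Agent.Lib.Subspaces.SympGen Cfsg.Agent.Lib.Subspaces.FormVec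
  Cfsg.Agent.Lib.SubfieldMax.Linear Cfsg.Agent.Lib.SubfieldMax.Form

namespace Cfsg.Agent.Lib.SpFourEven23

variable {F : Type*} [Field F] [Fintype F]

local notation "ι₄" => Fin 2 ⊕ Fin 2

theorem exists_ne_ne (h4 : 4 ≤ Fintype.card F) (a : F) : ∃ t : F, t ≠ 0 ∧ t ≠ a := by
  classical
  obtain ⟨t, ht⟩ : ∃ t, t ∈ (Finset.univ \ {0, a} : Finset F) := by
    apply Finset.card_pos.1
    have h1 := Finset.le_card_sdiff ({0, a} : Finset F) Finset.univ
    have h2 : ({0, a} : Finset F).card ≤ 2 := Finset.card_le_two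
    rw [Finset.card_univ] at h1
    omega
  simp at ht
  exact ⟨t, ht.1, ht.2⟩

theorem ext_maximal (h2 : (2 : F) = 0) (h4 : 4 ≤ Fintype.card F)
    (K : Subalgebra F (Matrix ι₄ ι₄ F)) (hK : Cfsg.Geo.IsFieldSubalgebra 2 K)
    (hsa : Cfsg.Geo.IsSelfAdjointFor (Cfsg.sympForm 2 F) K)
    (halt : ∀ k ∈ K, ∀ v : ι₄ → F, Cfsg.sympForm 2 F (Matrix.mulVec k v) v = 0) :
    Cfsg.Geo.IsMaximalIn (Cfsg.spGL 2 F) (Cfsg.Geo.subalgebraNormalizer K ⊓ Cfsg.spGL 2 F) := by
  classical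
  haveI : CharP F 2 := (CharP.charP_iff_prime_eq_zero Nat.prime_two).2 h2
  letI : Field K := fieldOfSub hK
  letI hmod : Module K (ι₄ → F) := subModule K
  haveI : @IsScalarTower F K (ι₄ → F) Algebra.toSMul hmod.toSMul inferInstance :=
    ⟨fun a k x => smul_mulVec a (k : Matrix ι₄ ι₄ F) x⟩
  haveI : Finite K := Finite.of_injective (fun x : K => (x : Matrix ι₄ ι₄ F)) Subtype.val_injective
  have hs := sympForm_isSymplectic (F := F) 2
  let f := toBilin hs
  have hfr : finrank F K = 2 := hK.finrank_eq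
  have hcardn : finrank F (ι₄ → F) = 4 := by rw [Module.finrank_fintype_fun_eq_card]; simp
  have hsa' : ∀ (c : K) x y, f (c • x) y = f x (c • y) := fun c x y => hsa _ c.2 x y
  have halt' : ∀ (c : K) x, f (c • x) x = 0 := fun c x => halt _ c.2 x
  have hnd : ∀ x, (∀ y, f x y = 0) → x = 0 := (toBilin_isSymp hs).nondeg
  refine isMaximalIn_of inf_le_right ?_ ?_
  · -- a transvection of the form is not semilinear
    let v : ι₄ → F := Pi.single (Sum.inl 0) 1
    have hv : v ≠ 0 := by simp [v]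
    refine ⟨_, stv_mem_spGL v 1, fun h => ?_⟩
    have ht : ∀ x, (tv v ((1 : F) • formVec (Cfsg.sympForm 2 F) v) : Matrix ι₄ ι₄ F) *ᵥ x =
        x + f x v • v := fun x => by
      rw [stv_mulVec hs, one_mul]; rfl
    obtain ⟨w, hw⟩ : ∃ w, f w v = 1 := by
      obtain ⟨⟨y, hy⟩, -⟩ := hs.nondegenerate v hv
      refine ⟨(Cfsg.sympForm 2 F y v)⁻¹ • y, ?_⟩
      show Cfsg.sympForm 2 F _ v = 1
      rw [hs.bilinear.smul_left, inv_mul_cancel₀ hy]
    obtain ⟨c, hc⟩ := exists_not_range (F := F) (K := K) (by rw [hfr]; exact Nat.prime_two)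
    obtain ⟨d, hdK, hd⟩ := semi_of_mem_normalizer h.1 c.2
    let φ : (ι₄ → F) →ₗ[F] (Fin 2 → F) :=
      LinearMap.pi ![f.flip v, (f.flip v) ∘ₗ Matrix.mulVecLin (c : Matrix ι₄ ι₄ F)]
    obtain ⟨x, hx, hx0⟩ : ∃ x ∈ LinearMap.ker φ, x ≠ 0 := by
      refine (Submodule.ne_bot_iff _).1 fun hk => ?_
      have h1 := LinearMap.finrank_le_finrank_of_injective (LinearMap.ker_eq_bot.1 hk)
      rw [Module.finrank_fin_fun] at h1
      omega
    have hx1 : f x v = 0 := congrFun (LinearMap.mem_ker.1 hx) 0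
    have hx2 : f (c • x) v = 0 := congrFun (LinearMap.mem_ker.1 hx) 1
    have hdc : (⟨d, hdK⟩ : K) = c := by
      refine smul_left_injective K hx0 ?_
      show d *ᵥ x = c • x
      have h1 := hd x
      rw [ht, ht, hx1, zero_smul, add_zero] at h1
      rw [← h1]
      show c • x + f (c • x) v • v = c • x
      rw [hx2, zero_smul, add_zero]
    have hdc' : d = (c : Matrix ι₄ ι₄ F) := congrArg Subtype.val hdc
    have h2 := hd w
    rw [ht, ht, hw, one_smul, hdc'] at h2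
    have h3 : c • w + f (c • w) v • v = c • (w + v) := h2
    rw [smul_add, add_right_inj, ← algebraMap_smul K (f (c • w) v) v] at h3
    exact hc ⟨_, smul_left_injective K hv h3⟩
  · intro M hHM hMS g hg hgn
    let H : Subgroup ((ι₄ → F) ≃ₗ[F] (ι₄ → F)) := M.map (glEquiv (F := F) (ι := ι₄)).toMonoidHom
    have hiso : ∀ k ∈ H, ∀ x y, f (k x) (k y) = f x y := by
      intro k hk x y
      obtain ⟨A, hA, rfl⟩ := Subgroup.mem_map.1 hk
      exact mem_spGL_iff.1 (hMS hA) x y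
    have hlin : ∀ k : (ι₄ → F) ≃ₗ[F] (ι₄ → F), (∀ (c : K) x, k (c • x) = c • k x) →
        (∀ x y, f (k x) (k y) = f x y) → k ∈ H := by
      intro k hk hkf
      obtain ⟨A, rfl⟩ := (glEquiv (F := F) (ι := ι₄)).surjective k
      refine Subgroup.mem_map.2 ⟨A, hHM ⟨?_, mem_spGL_iff.2 fun x y => hkf x y⟩, rfl⟩
      exact mem_normalizer_of_semi K A fun c hc => ⟨c, hc, hk ⟨c, hc⟩⟩
    let S : Ext.Data F K (ι₄ → F) :=
      { ω := liftForm f
        f := f
        hf := fun x y => (trace_liftForm_one (K := K) f x y).symm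
        add_left := liftForm_add_left f
        smul_left := liftForm_smul_left f
        add_right := liftForm_add_right f
        smul_right := liftForm_smul_right hsa'
        alt := fun x => trace_ext (F := F) fun a => by rw [trace_liftForm, mul_zero, map_zero]; exact halt' a x
        nondeg := hnd
        dim := hcardn
        deg := hfr
        M := H
        iso := hiso
        lin_mem := hlin }
    have hns : ¬ IsSemi F K (glEquiv g) := fun hk => hgn ⟨mem_normalizer_of_semi K g fun c hc => by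
      obtain ⟨d, hd⟩ := hk ⟨c, hc⟩
      exact ⟨d, d.2, hd⟩, hMS hg⟩
    refine spGL_le fun v a => ?_
    obtain ⟨k, hk, hkz⟩ := S.transvection_mem (exists_ne_ne h4)
      (g := glEquiv g) (Subgroup.mem_map.2 ⟨g, hg, rfl⟩) hns v a
    obtain ⟨A, hA, rfl⟩ := Subgroup.mem_map.1 hk
    have hAt : A = tv v (a • formVec (Cfsg.sympForm 2 F) v) := gl_ext fun x => by
      rw [stv_mulVec hs]; exact hkz x
    exact hAt ▸ hA

theorem subfield_maximal (h2 : (2 : F) = 0) (F₀ : Subfield F) (r : ℕ) (hr : r.Prime)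
    (hcard : Fintype.card F = Nat.card F₀ ^ r) (P : Matrix.GeneralLinearGroup ι₄ F) (ζ : F) (hζ : ζ ≠ 0)
    (hP : Cfsg.Geo.IsFormRationalStructure (Cfsg.sympForm 2 F) F₀ ζ P) :
    Cfsg.Geo.IsMaximalIn (Cfsg.spGL 2 F) (Cfsg.Geo.subfieldSubgroup F₀ P ⊓ Cfsg.spGL 2 F) := by
  classical
  have hf := sympForm_isSymplectic (F := F) 2
  let B₀ : (ι₄ → F) →ₗ[F] (ι₄ → F) →ₗ[F] F :=
    ζ • (toBilin hf).compl₁₂ (Matrix.mulVecLin (P : Matrix ι₄ ι₄ F)) (Matrix.mulVecLin (P : Matrix ι₄ ι₄ F))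
  have hB : ∀ u v, B₀ u v = ζ * Cfsg.sympForm 2 F ((P : Matrix ι₄ ι₄ F) *ᵥ u) ((P : Matrix ι₄ ι₄ F) *ᵥ v) :=
    fun u v => rfl
  let c := (MulAut.conj P).toMonoidHom
  have hconj : ∀ (g : GL ι₄ F) (u : ι₄ → F),
      ((c g : GL ι₄ F) : Matrix ι₄ ι₄ F) *ᵥ ((P : Matrix ι₄ ι₄ F) *ᵥ u) =
      (P : Matrix ι₄ ι₄ F) *ᵥ ((g : Matrix ι₄ ι₄ F) *ᵥ u) := by
    intro g u
    show ((P * g * P⁻¹ : GL ι₄ F) : Matrix ι₄ ι₄ F) *ᵥ _ = _
    rw [gl_mul_mulVec, gl_mul_mulVec, gl_inv_mulVec]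
  have hsp : ∀ g : GL ι₄ F, c g ∈ Cfsg.spGL 2 F ↔
      ∀ u v, B₀ ((g : Matrix ι₄ ι₄ F) *ᵥ u) ((g : Matrix ι₄ ι₄ F) *ᵥ v) = B₀ u v := by
    intro g
    rw [mem_spGL_iff]
    constructor
    · intro h u v
      simp only [hB, ← hconj g]
      exact congrArg (ζ * ·) (h _ _)
    · intro h u v
      have := h (((P⁻¹ : GL ι₄ F) : Matrix ι₄ ι₄ F) *ᵥ u) (((P⁻¹ : GL ι₄ F) : Matrix ι₄ ι₄ F) *ᵥ v)
      simp only [hB, ← hconj g, gl_mulVec_inv] at this
      exact mul_left_cancel₀ hζ this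
  have hsub : ∀ g : GL ι₄ F, c g ∈ Cfsg.Geo.subfieldSubgroup F₀ P ↔ RatUpTo F₀ g := by
    intro g
    rw [Cfsg.Agent.Lib.SubfieldMax.Mem.mem_sub_iff]
    rw [show P⁻¹ * c g * P = g by show P⁻¹ * (P * g * P⁻¹) * P = g; group]
  have hcard' : Nat.card F = Nat.card F₀ ^ r := by rw [Nat.card_eq_fintype_card, hcard]
  have halt : ∀ v, B₀ v v = 0 := fun v => by rw [hB, hf.alternating, mul_zero]
  have hnd : ∀ v, (∀ w, B₀ v w = 0) → v = 0 := by
    intro v hv
    by_contra hv0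
    have hv' : (P : Matrix ι₄ ι₄ F) *ᵥ v ≠ 0 := fun e => hv0 (gl_mulVec_injective P (by simpa using e))
    obtain ⟨-, y, hy⟩ := hf.nondegenerate _ hv'
    have := hv (((P⁻¹ : GL ι₄ F) : Matrix ι₄ ι₄ F) *ᵥ y)
    rw [hB, gl_mulVec_inv, mul_eq_zero] at this
    exact this.elim hζ hy
  have hset : ∀ M : Subgroup (GL ι₄ F), Cfsg.Geo.subfieldSubgroup F₀ P ⊓ Cfsg.spGL 2 F ≤ M →
      M ≤ Cfsg.spGL 2 F → Subfield.Setting F₀ B₀ (M.comap c) := by
    intro M hHM hMK
    exact ⟨by simp, h2, halt, hnd, fun u v hu hv => hP u v hu hv, fun x hx => (hsp x).1 (hMK hx),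
      fun x hx hxi => hHM ⟨(hsub x).2 ⟨1, one_ne_zero, fun i j => by rw [one_mul]; exact hx i j⟩,
        (hsp x).2 hxi⟩⟩
  refine isMaximalIn_of inf_le_right ?_ ?_
  · obtain ⟨l, hl⟩ : ∃ l : F, l ∉ F₀ := by
      by_contra hall
      push Not at hall
      have : Nat.card F₀ = Nat.card F := Nat.card_congr (Equiv.subtypeUnivEquiv hall)
      rw [← this] at hcard'
      exact hr.ne_one (Nat.pow_right_injective (Finite.one_lt_card (α := F₀)) (hcard'.symm.trans (pow_one _).symm))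
    have S := hset _ inf_le_right le_rfl
    obtain ⟨x, hx, hxn, -⟩ := S.orth (k := 0) ![] (fun i => i.elim0) (l := 0) ![] (fun i => i.elim0)
      (by omega)
    have hx0 : x ≠ 0 := fun e => hxn (e ▸ Submodule.zero_mem _)
    obtain ⟨y, w, u, Φ⟩ := S.exists_frame hx hx0
    obtain ⟨⟨a1, a2, a3, a4, a5, a6⟩, b1, b2, b3, b4, b5, b6⟩ := S.vals Φ
    let L : (ι₄ → F) →ₗ[F] (ι₄ → F) := LinearMap.id + (l • B₀.flip x).smulRight x
    have hL : ∀ z, L z = z + (l * B₀ z x) • x := fun z => rfl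
    have hLi : Function.Injective L := by
      rw [← LinearMap.ker_eq_bot, LinearMap.ker_eq_bot']
      intro z hz
      rw [hL] at hz
      have := congrArg (fun v => B₀ v x) hz
      simp [halt] at this
      simpa [this] using hz
    obtain ⟨t, ht⟩ := (glEquiv (F := F) (ι := ι₄)).surjective (LinearEquiv.ofInjectiveEndo L hLi)
    have happ : ∀ z, (t : Matrix ι₄ ι₄ F) *ᵥ z = z + (l * B₀ z x) • x := fun z => by
      rw [← glEquiv_apply, ht]; exact hL z
    refine ⟨c t, (hsp t).2 fun p q => ?_, fun hmem => ?_⟩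
    · rw [happ, happ]
      simp [halt, S.symm x q]
      linear_combination (l * B₀ p x * B₀ q x) * h2
    obtain ⟨d, hd0, hd⟩ := (hsub t).1 hmem.1
    have hR : ∀ v, Rat F₀ v → Rat F₀ (d • ((t : Matrix ι₄ ι₄ F) *ᵥ v)) := fun v hv i => by
      rw [Pi.smul_apply, smul_eq_mul, mulVec, dotProduct, Finset.mul_sum]
      exact sum_mem fun j _ => by rw [← mul_assoc]; exact mul_mem (hd i j) (hv j)
    have h1 := S.rat _ _ (hR x Φ.hx) Φ.hu
    have h3 := S.rat _ _ (hR u Φ.hu) Φ.hu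
    simp [happ, halt, b3, a3] at h1 h3
    apply hl
    have := div_mem h3 h1
    rwa [mul_div_assoc, mul_div_cancel₀ _ hd0] at this
  · intro M hHM hMK g hgM hgH
    have S := hset M hHM hMK
    by_cases hG : Subfield.Good F₀ B₀ (M.comap c)
    · intro x hx
      obtain ⟨y, rfl⟩ : ∃ y, c y = x := (MulAut.conj P).surjective x
      have hsymp : Cfsg.Geo.IsSymplecticForm (fun u v => B₀ u v) := by
        refine ⟨⟨fun x y v => by simp, fun c x v => by simp, fun v x y => by simp, fun c v x => by simp⟩,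
          fun v w => ?_, halt, S.ndForm⟩
        haveI := S.charP
        rw [CharTwo.neg_eq]; exact S.symm v w
      refine Cfsg.Agent.Lib.Subspaces.SympGen.mem_of_isometry hsymp (M := M.comap c) (fun v a => ?_) ((hsp y).1 hx)
      obtain ⟨k, hk, hkz⟩ := S.all_of_good hr hcard' hG v a
      have : k = tv v (a • formVec (fun u v => B₀ u v) v) := gl_ext fun z => by
        rw [stv_mulVec hsymp]; exact hkz z
      exact this ▸ hk
    · obtain ⟨y, rfl⟩ : ∃ y, c y = g := (MulAut.conj P).surjective g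
      exact absurd ⟨(hsub y).2 (S.rational_of_not_good hG hgM), hMK hgM⟩ hgH

end Cfsg.Agent.Lib.SpFourEven23
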