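import Cfsg.Agent.Lib.SpFourEven23.Full
import Cfsg.Agent.Lib.SubfieldMax.TI

/-!
Without an irrational long parameter the group consists of rational elements.
Owner: helper23.
-/
set_option autoImplicit false
set_option linter.unusedSectionVars false

namespace Cfsg.Agent.Lib.SpFourEven23.Subfield

open Matrix Module Cfsg.Agent.Lib.Subspaces.Transvection Cfsg.Agent.Lib.SubfieldMax.Linear
  Cfsg.Agent.Lib.SubfieldMax.Form Cfsg.Agent.Lib.SubfieldMax.RatLin
  Cfsg.Agent.Lib.Subspaces.FormVec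
  Cfsg.Agent.Lib.SpFourEven23.Ext Cfsg.Agent.Lib.K41.ExtForm

variable {ι : Type} [Fintype ι] [DecidableEq ι] {F : Type*} [Field F] [Finite F]
  {F₀ : Subfield F} {B : (ι → F) →ₗ[F] (ι → F) →ₗ[F] F} {M : Subgroup (GL ι F)}

local notation "Vec" => ι → F
local notation "Mat" => Matrix ι ι F

namespace Setting

variable (S : Setting F₀ B M)
include S

theorem triple (hG : ¬ Good F₀ B M) {r s α : F} (h : InP F₀ B M r s α) : r ∈ F₀ ∧ s ∈ F₀ ∧ α ∈ F₀ := by
  have key : ∀ {r s α}, InP F₀ B M r s α → r ∈ F₀ := fun {r s α} h => by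
    by_contra hr
    exact hG (S.descent h hr)
  refine ⟨key h, key (S.swap h), ?_⟩
  by_contra hα
  refine hG ⟨α, hα, (h.mul (S.rational (key h) (key (S.swap h)) (zero_mem _))).cast ?_ ?_ ?_⟩
  · linear_combination r * S.two
  · linear_combination s * S.two
  · linear_combination (r * s) * S.two

/-- A centre orthogonal to a rational vector is rational up to a scalar. -/
theorem rat_of_orth (hG : ¬ Good F₀ B M) {a x : Vec} {c : F} (hc : c ≠ 0) (ha0 : a ≠ 0)
    {T : GL ι F} (hT : T ∈ M) (hTz : ∀ z, glEquiv T z = z + (c * B z a) • a)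
    (hx : Rat F₀ x) (hx0 : x ≠ 0) (hax : B a x = 0) :
    ∃ l : F, l ≠ 0 ∧ Rat F₀ (l • a) := by
  haveI := S.charP
  obtain ⟨l, hl⟩ := FiniteField.isSquare_of_char_two (ringChar.eq F 2) c
  have hl0 : l ≠ 0 := fun e => hc (by rw [hl, e, mul_zero])
  have coord : ∀ x y w u : Vec, Fr F₀ B x y w u → B a x = 0 → l * B a w ∈ F₀ ∧ l * B a y ∈ F₀ := by
    intro x y w u Φ hax
    obtain ⟨⟨a1, a2, a3, a4, a5, a6⟩, b1, b2, b3, b4, b5, b6⟩ := S.vals Φ
    have hd := S.decomp Φ a
    rw [hax, zero_smul, add_zero] at hd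
    have elt : ∀ p q : F, p ∈ F₀ → q ∈ F₀ →
        InP F₀ B M (c * (B a y * p + B a w * q) * B a w) (c * (B a y * p + B a w * q) * B a y)
          (c * (B a y * p + B a w * q) * (B a y * p + B a w * q)) := by
      intro p q hp hq
      obtain ⟨h, hh, ha⟩ := S.rational (α := 0) hp hq (zero_mem _) x y w u Φ
      set β := B a y * p + B a w * q with hβ
      have hha : glEquiv h a = a + β • x := by
        conv_lhs => rw [hd]
        simp only [map_add, map_smul, ha.fx, ha.fy, ha.fw, hβ]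
        conv_rhs => arg 1; rw [hd]
        module
      have hT' : ∀ z, glEquiv (h * T * h⁻¹) z = z + (c * B z (a + β • x)) • (a + β • x) := fun z => by
        have e := S.iso h hh (((h⁻¹ : GL ι F) : Mat) *ᵥ z) a
        rw [gl_mulVec_inv] at e
        rw [← hha]
        simp only [glEquiv_apply] at hTz ⊢
        rw [gl_mul_mulVec, gl_mul_mulVec, hTz, mulVec_add, mulVec_smul, gl_mulVec_inv, e]
      have hD : ∀ z, glEquiv (h * T * h⁻¹ * T) z =
          z + (c * B z a) • a + (c * B z (a + β • x)) • (a + β • x) := fun z => by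
        rw [map_mul]
        show glEquiv (h * T * h⁻¹) (glEquiv T z) = _
        rw [hT', hTz]
        congr 2
        simp [S.alt, hax]
      refine S.of_one Φ (M.mul_mem (M.mul_mem (M.mul_mem hh hT) (M.inv_mem hh)) hT) ⟨?_, ?_, ?_, ?_⟩
      · rw [hD]; simp [S.alt, S.symm x a, hax]
      · rw [hD]
        simp only [map_add, map_smul, S.symm y a, a1, smul_eq_mul, mul_zero, add_zero]
        linear_combination (norm := module) (c * B a y) • S.vv a
      · rw [hD]
        simp only [map_add, map_smul, S.symm w a, a2, smul_eq_mul, mul_zero, add_zero]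
        linear_combination (norm := module) (c * B a w) • S.vv a
      · rw [hD]
        simp only [map_add, map_smul, S.symm u a, a3, smul_eq_mul, mul_one]
        linear_combination (norm := module) (c * β) • hd + (c * B a u) • S.vv a +
          (c * β * B a u) • S.vv x
    have t1 := S.triple hG (elt 1 0 (one_mem _) (zero_mem _))
    have t2 := S.triple hG (elt 0 1 (zero_mem _) (one_mem _))
    simp only [mul_one, mul_zero, add_zero, zero_add] at t1 t2
    refine ⟨S.mem_of_sq ?_, S.mem_of_sq ?_⟩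
    · convert t2.1 using 1
      linear_combination -(B a w * B a w) * hl
    · convert t1.2.1 using 1
      linear_combination -(B a y * B a y) * hl
  obtain ⟨y, w, u, Φ⟩ := S.exists_frame hx hx0
  obtain ⟨hp, hq⟩ := coord x y w u Φ hax
  have hd := S.decomp Φ a
  rw [hax, zero_smul, add_zero] at hd
  set n : Vec := (l * B a w) • y + (l * B a y) • w with hn
  have hnR : Rat F₀ n := fun i => add_mem (mul_mem hp (Φ.hy i)) (mul_mem hq (Φ.hw i))
  have hla : l • a = (l * B a u) • x + n := by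
    conv_lhs => rw [hd]
    rw [hn]; module
  rcases eq_or_ne n 0 with hn0 | hn0
  · rw [hn0, add_zero] at hla
    have ho : l * B a u ≠ 0 := fun e => by
      rw [e, zero_smul, smul_eq_zero] at hla
      exact hla.elim hl0 ha0
    refine ⟨(l * B a u)⁻¹ * l, mul_ne_zero (inv_ne_zero ho) hl0, ?_⟩
    rw [mul_smul, hla, inv_smul_smul₀ ho]
    exact hx
  obtain ⟨y₂, w₂, u₂, Ψ⟩ := S.exists_frame hnR hn0
  have han : B a n = 0 := by
    rw [hn]
    simp only [map_add, map_smul, smul_eq_mul]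
    linear_combination (l * B a w * B a y) * S.two
  obtain ⟨hp2, hq2⟩ := coord n y₂ w₂ u₂ Ψ han
  obtain ⟨⟨a1, a2, a3, a4, a5, a6⟩, b1, b2, b3, b4, b5, b6⟩ := S.vals Ψ
  have e : ∀ z, l * B a z = l * B a u * B x z + B n z := fun z => by
    have h1 := congrArg (fun v => B v z) hla
    simpa using h1
  rw [e, b2, add_zero] at hp2
  rw [e, b1, add_zero] at hq2
  refine ⟨l, hl0, hla ▸ fun i => add_mem (mul_mem ?_ (hx i)) (hnR i)⟩
  by_contra ho
  have z1 : B x w₂ = 0 := by
    by_contra h0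
    have := div_mem hp2 (S.rat _ _ hx Ψ.hw)
    rw [mul_div_assoc, div_self h0, mul_one] at this
    exact ho this
  have z2 : B x y₂ = 0 := by
    by_contra h0
    have := div_mem hq2 (S.rat _ _ hx Ψ.hy)
    rw [mul_div_assoc, div_self h0, mul_one] at this
    exact ho this
  obtain ⟨⟨c1, c2, c3, c4, c5, c6⟩, d1, d2, d3, d4, d5, d6⟩ := S.vals Φ
  have hxn : B x n = 0 := by rw [hn]; simp [d1, d2]
  have hdx := S.decomp Ψ x
  rw [z1, z2, hxn, zero_smul, zero_smul, zero_smul, add_zero, add_zero, add_zero] at hdx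
  set k := B x u₂
  have k1 := congrArg (fun v => B v w) hdx
  have k2 := congrArg (fun v => B v y) hdx
  simp [hn, S.alt, d1, d2, d4, c4] at k1 k2
  rcases eq_or_ne k 0 with hk | hk
  · exact hx0 (by rw [hdx, hk, zero_smul])
  apply hn0
  rw [hn, k1.resolve_left hk |> fun h => (mul_eq_zero.2 h),
    k2.resolve_left hk |> fun h => (mul_eq_zero.2 h), zero_smul, zero_smul, add_zero]

/-- A rational point sent into the orthogonal of a rational vector forces rationality. -/
theorem rat_of_point (hG : ¬ Good F₀ B M) {g : GL ι F} (hg : g ∈ M) {x w : Vec} (hx : Rat F₀ x)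
    (hx0 : x ≠ 0) (hw : Rat F₀ w) (hw0 : w ≠ 0) (hwx : B w (glEquiv g x) = 0) : RatUpTo F₀ g := by
  have hiso : ∀ u v, B (glEquiv g u) (glEquiv g v) = B u v := S.iso g hg
  have horthrat : ∀ v, Rat F₀ v → ∀ w, Rat F₀ w → v ≠ 0 → w ≠ 0 →
      B (glEquiv g v) w = 0 → ∃ l : F, l ≠ 0 ∧ Rat F₀ (l • glEquiv g v) := by
    intro v hv w hw hv0 hw0 h
    obtain ⟨y', w', u', Φ⟩ := S.exists_frame hv hv0
    obtain ⟨T, hT, hA⟩ := S.rational (r := 0) (s := 0) (α := 1) (zero_mem _) (zero_mem _) (one_mem _)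
      v y' w' u' Φ
    refine S.rat_of_orth hG (c := 1) one_ne_zero ((glEquiv g).map_ne_zero_iff.2 hv0)
      (T := g * T * g⁻¹) (M.mul_mem (M.mul_mem hg hT) (M.inv_mem hg)) (fun z => ?_) hw hw0 h
    obtain ⟨z', rfl⟩ := (glEquiv g).surjective z
    rw [hiso]
    have e : glEquiv T z' = z' + B z' v • v := by
      have hd := S.decomp Φ z'
      calc glEquiv T z' = glEquiv T (B z' u' • v + B z' w' • y' + B z' y' • w' + B z' v • u') := by
            rw [← hd]
        _ = (B z' u' • v + B z' w' • y' + B z' y' • w' + B z' v • u') + B z' v • v := by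
          simp only [map_add, map_smul, hA.fx, hA.fy, hA.fw, hA.fu]; module
        _ = z' + B z' v • v := by rw [← hd]
    simp only [glEquiv_apply, one_mul] at e ⊢
    rw [gl_mul_mulVec, gl_mul_mulVec, gl_inv_mulVec, e, mulVec_add, mulVec_smul]
  obtain ⟨lx, hlx, hxr⟩ := horthrat x hx w hw hx0 hw0 (by rw [S.symm]; exact hwx)
  have hperp : ∀ v, Rat F₀ v → v ≠ 0 → ∀ (l : F) (y : Vec), Rat F₀ y → y ≠ 0 → l ≠ 0 →
      Rat F₀ (l • glEquiv g y) → B v y = 0 →
      ∃ l : F, l ≠ 0 ∧ Rat F₀ (l • glEquiv g v) := by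
    intro v hv hv0 l y hy hy0 hl hyr hvy
    refine horthrat v hv _ hyr hv0 (smul_ne_zero hl ((glEquiv g).map_ne_zero_iff.2 hy0)) ?_
    rw [map_smul, hiso, hvy, smul_zero]
  have hall : ∀ v, Rat F₀ v → v ≠ 0 → ∃ l : F, l ≠ 0 ∧ Rat F₀ (l • glEquiv g v) := by
    intro v hv hv0
    obtain ⟨v', hv', hv'n, hv'o⟩ := S.orth ![v, x] (fun i => by fin_cases i; exacts [hv, hx])
      ![x] (fun i => by fin_cases i; exact hx) (by omega)
    have hv'0 : v' ≠ 0 := fun e => hv'n (e ▸ Submodule.zero_mem _)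
    obtain ⟨l', hl', hv'r⟩ := hperp v' hv' hv'0 lx x hx hx0 hlx hxr (hv'o 1)
    exact hperp v hv hv0 l' v' hv' hv'0 hl' hv'r (by rw [S.symm]; exact hv'o 0)
  have hprod : ∀ u v : Vec, ∀ a b : F, Rat F₀ (a • glEquiv g u) →
      Rat F₀ (b • glEquiv g v) → Rat F₀ u → Rat F₀ v → B u v ≠ 0 → a * b ∈ F₀ := by
    intro u v a b hu hv hur hvr huv
    have h1 := S.rat _ _ hu hv
    simp only [map_smul, LinearMap.smul_apply, smul_eq_mul, hiso] at h1
    have := mul_mem h1 (inv_mem (S.rat u v hur hvr))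
    field_simp at this
    rwa [mul_comm] at this
  refine ⟨lx, hlx, fun i j => ?_⟩
  have hej : (Pi.single j (1 : F) : Vec) ≠ 0 := by simp
  obtain ⟨l, hl, hjr⟩ := hall _ (Rat.single j (one_mem _)) hej
  obtain ⟨z, hz, hz1, hz2⟩ := exists_dot_both (S.rat_formVec hx) (S.rat_formVec (Rat.single j (one_mem F₀)))
    (formVec_ne_zero S.linL S.ndForm hx0) (formVec_ne_zero S.linL S.ndForm hej)
  rw [S.fv_dot] at hz1 hz2
  have hz0 : z ≠ 0 := fun e => hz1 (by rw [e, map_zero, LinearMap.zero_apply])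
  obtain ⟨lz, hlz, hzr⟩ := hall z hz hz0
  have e1 := hprod z x lz lx hzr hxr hz hx hz1
  have e2 := hprod z _ lz l hzr hjr hz (Rat.single j (one_mem _)) hz2
  have h3 : lx / l ∈ F₀ := by
    have := div_mem e1 e2
    rwa [mul_div_mul_left _ _ hlz] at this
  have h4 := mul_mem h3 (hjr i)
  rw [Pi.smul_apply, smul_eq_mul, glEquiv_apply, mulVec_single_one, ← mul_assoc, div_mul_cancel₀ _ hl] at h4
  exact h4

/-- Rigidity. -/
theorem rational_of_not_good (hG : ¬ Good F₀ B M) {g : GL ι F} (hg : g ∈ M) : RatUpTo F₀ g := by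
  classical
  by_contra hcon
  haveI := S.charP
  haveI : Fact (Nat.Prime 2) := ⟨Nat.prime_two⟩
  obtain ⟨e₁, he₁, he₁n, -⟩ := S.orth (k := 0) ![] (fun i => i.elim0) (l := 0) ![] (fun i => i.elim0)
    (by omega)
  have he₁0 : e₁ ≠ 0 := fun e => he₁n (e ▸ Submodule.zero_mem _)
  obtain ⟨e₂, w₀, u₀, Φ⟩ := S.exists_frame he₁ he₁0
  obtain ⟨⟨c1, c2, c3, c4, c5, c6⟩, d1, d2, d3, d4, d5, d6⟩ := S.vals Φ
  set a : Vec := glEquiv g e₁ with ha
  have haw : ∀ w : Vec, Rat F₀ w → w ≠ 0 → B w a ≠ 0 := fun w hw hw0 h =>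
    hcon (S.rat_of_point hG hg he₁ he₁0 hw hw0 h)
  let E : Submodule F Vec := Submodule.span F {e₁, e₂}
  let W : Submodule F Vec := E ⊔ Submodule.span F {a}
  have he₁E : e₁ ∈ E := Submodule.subset_span (by simp)
  have he₂E : e₂ ∈ E := Submodule.subset_span (by simp)
  have hperpE : ∀ v, B v e₁ = 0 → B v e₂ = 0 → v ∈ E := fun v h1 h2 => by
    have hd := S.decomp Φ v
    rw [h1, h2, zero_smul, zero_smul, add_zero, add_zero] at hd
    rw [hd]
    exact E.add_mem (E.smul_mem _ he₁E) (E.smul_mem _ he₂E)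
  have hEiso : ∀ v ∈ E, B v e₁ = 0 ∧ B v e₂ = 0 := fun v hv => by
    obtain ⟨s, t, rfl⟩ := Submodule.mem_span_pair.1 hv
    simp [S.alt, c1, d1]
  let K0 : Subgroup (GL ι F) :=
    { carrier := {x | ∀ v, glEquiv x v - v ∈ W}
      one_mem' := fun v => by simp
      mul_mem' := fun {x y} hx hy v => by
        rw [map_mul]
        show glEquiv x (glEquiv y v) - v ∈ W
        rw [← sub_add_sub_cancel _ (glEquiv y v) v]
        exact W.add_mem (hx _) (hy v)
      inv_mem' := fun {x} hx v => by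
        have := W.neg_mem (hx (glEquiv x⁻¹ v))
        simp only [glEquiv_apply] at this ⊢
        rwa [gl_mulVec_inv, neg_sub] at this }
  let K : Subgroup (GL ι F) := K0 ⊓ M
  -- elements fixing `E` pointwise
  let P : Subgroup K :=
    { carrier := {x | glEquiv (x : GL ι F) e₁ = e₁ ∧ glEquiv (x : GL ι F) e₂ = e₂}
      one_mem' := by simp
      mul_mem' := fun {x y} hx hy => by
        simp only [Set.mem_setOf_eq, Subgroup.coe_mul, map_mul] at hx hy ⊢
        exact ⟨by show glEquiv _ (glEquiv _ e₁) = _; rw [hy.1, hx.1],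
          by show glEquiv _ (glEquiv _ e₂) = _; rw [hy.2, hx.2]⟩
      inv_mem' := fun {x} hx => by
        simp only [Set.mem_setOf_eq, Subgroup.coe_inv, map_inv] at hx ⊢
        exact ⟨by conv_lhs => rw [← hx.1]; rw [Cfsg.Agent.Lib.ExtFieldMax.inv_apply_self],
          by conv_lhs => rw [← hx.2]; rw [Cfsg.Agent.Lib.ExtFieldMax.inv_apply_self]⟩ }
  let R : Subgroup K :=
    { carrier := {x | ∀ v, Rat F₀ v → Rat F₀ (glEquiv (x : GL ι F) v)}
      one_mem' := fun v hv => by simpa using hv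
      mul_mem' := fun {x y} hx hy v hv => by
        rw [Subgroup.coe_mul, map_mul]
        exact hx _ (hy v hv)
      inv_mem' := fun {x} hx v hv => by
        let φ : {v : Vec // Rat F₀ v} → {v : Vec // Rat F₀ v} := fun v => ⟨_, hx v.1 v.2⟩
        have hinj : Function.Injective φ := fun p q hpq =>
          Subtype.ext ((glEquiv (x : GL ι F)).injective (congrArg Subtype.val hpq))
        obtain ⟨⟨p, hp⟩, hpv⟩ := Finite.injective_iff_surjective.1 hinj ⟨v, hv⟩
        rw [← show glEquiv (x : GL ι F) p = v from congrArg Subtype.val hpv, Subgroup.coe_inv, map_inv]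
        show Rat F₀ ((glEquiv (x : GL ι F))⁻¹ (glEquiv (x : GL ι F) p))
        rwa [Cfsg.Agent.Lib.ExtFieldMax.inv_apply_self] }
  let Q : Subgroup K := P ⊓ R
  have hdiff : ∀ x ∈ Q, ∀ v, glEquiv (x : GL ι F) v - v ∈ E := by
    intro x hx v
    have hi : ∀ p q, B (glEquiv (x : GL ι F) p) (glEquiv (x : GL ι F) q) = B p q := S.iso _ x.2.2
    refine hperpE _ ?_ ?_ <;> rw [map_sub, LinearMap.sub_apply]
    · nth_rw 1 [← hx.1.1]; rw [hi, sub_self]
    · nth_rw 1 [← hx.1.2]; rw [hi, sub_self]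
  have hfix : ∀ x ∈ Q, ∀ v ∈ E, glEquiv (x : GL ι F) v = v := by
    intro x hx v hv
    obtain ⟨s, t, rfl⟩ := Submodule.mem_span_pair.1 hv
    rw [map_add, map_smul, map_smul, hx.1.1, hx.1.2]
  have hord : ∀ x ∈ Q, x * x = (1 : K) := by
    intro x hx
    apply Subtype.ext
    refine gl_ext fun v => ?_
    rw [Subgroup.coe_mul, gl_mul_mulVec, Subgroup.coe_one, Units.val_one, one_mulVec]
    have h1 := hfix x hx _ (hdiff x hx v)
    simp only [glEquiv_apply] at h1
    rw [mulVec_sub] at h1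
    linear_combination (norm := module) h1 + S.vv (((x : GL ι F) : Mat) *ᵥ v) - S.vv v
  have hcomm : IsMulCommutative Q := ⟨⟨fun x y => Subtype.ext (by
    have h1 := hord _ (x * y).2
    have hxi : (x : K)⁻¹ = x := inv_eq_of_mul_eq_one_right (hord _ x.2)
    have hyi : (y : K)⁻¹ = y := inv_eq_of_mul_eq_one_right (hord _ y.2)
    rw [Subgroup.coe_mul] at h1
    rw [Subgroup.coe_mul, Subgroup.coe_mul, ← inv_eq_of_mul_eq_one_right h1, _root_.mul_inv_rev, hxi, hyi])⟩⟩
  have hQp : IsPGroup 2 Q := fun x => ⟨1, Subtype.ext (by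
    rw [pow_one, pow_two, Subgroup.coe_mul, Subgroup.coe_one]; exact hord _ x.2)⟩
  -- rational elements of `K` lie in `Q`
  have hKQ : ∀ x : K, RatUpTo F₀ (x : GL ι F) → x ∈ Q := by
    rintro ⟨x, hxK0, hxM⟩ ⟨c, hc, hx⟩
    have hcv : ∀ v : Vec, Rat F₀ v → Rat F₀ (c • glEquiv x v) := fun v hv i => by
      rw [glEquiv_apply, Pi.smul_apply, smul_eq_mul, mulVec, dotProduct, Finset.mul_sum]
      exact sum_mem fun j _ => by rw [← mul_assoc]; exact mul_mem (hx i j) (hv j)
    have hi : ∀ p q, B (glEquiv x p) (glEquiv x q) = B p q := S.iso x hxM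
    have hcF : c ∈ F₀ := by
      apply S.mem_of_sq
      have h := S.rat _ _ (hcv _ Φ.hx) (hcv _ Φ.hu)
      simpa [hi, d3] using h
    have hR : ∀ v, Rat F₀ v → Rat F₀ (glEquiv x v) := fun v hv i => by
      have := mul_mem (inv_mem hcF) (hcv v hv i)
      rwa [Pi.smul_apply, smul_eq_mul, inv_mul_cancel_left₀ hc] at this
    set z : Vec := B e₂ a • e₁ + B e₁ a • e₂ with hz
    have hzW : ∀ v ∈ W, B z v = 0 := by
      intro v hv
      obtain ⟨p, hp, q, hq, rfl⟩ := Submodule.mem_sup.1 hv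
      obtain ⟨s, t, rfl⟩ := Submodule.mem_span_pair.1 hp
      obtain ⟨k, rfl⟩ := Submodule.mem_span_singleton.1 hq
      simp [hz, S.alt, d1, c1]
      linear_combination (k * B e₁ a * B e₂ a) * S.two
    have hxz : glEquiv x z = z := by
      rw [← sub_eq_zero]
      refine S.nd _ fun v => ?_
      obtain ⟨v', rfl⟩ := (glEquiv x).surjective v
      have h := hzW _ (hxK0 v')
      rw [map_sub, sub_eq_zero] at h
      rw [map_sub, LinearMap.sub_apply, hi, h, sub_self]
    set δ₁ := glEquiv x e₁ - e₁ with hδ₁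
    set δ₂ := glEquiv x e₂ - e₂ with hδ₂
    have hδ : B e₂ a • δ₁ + B e₁ a • δ₂ = 0 := by
      rw [hz, map_add, map_smul, map_smul] at hxz
      rw [hδ₁, hδ₂]
      linear_combination (norm := module) hxz
    have hδ1R : Rat F₀ δ₁ := (hR _ Φ.hx).sub Φ.hx
    have hδ2R : Rat F₀ δ₂ := (hR _ Φ.hy).sub Φ.hy
    have h1 : δ₁ = 0 := by
      funext i
      by_contra hne
      have hi' := congrFun hδ i
      simp only [Pi.add_apply, Pi.smul_apply, Pi.zero_apply, smul_eq_mul] at hi'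
      let w : Vec := δ₁ i • e₂ + δ₂ i • e₁
      refine haw w (fun j => add_mem (mul_mem (hδ1R i) (Φ.hy j)) (mul_mem (hδ2R i) (Φ.hx j))) ?_ ?_
      · intro hw
        have := congrArg (fun v => B v w₀) hw
        simp [w, d4, d2] at this
        exact hne this
      · simp only [w, map_add, map_smul, LinearMap.add_apply, LinearMap.smul_apply, smul_eq_mul]
        linear_combination hi'
    have h2 : δ₂ = 0 := by
      rw [h1, smul_zero, zero_add, smul_eq_zero] at hδ
      exact hδ.resolve_left (haw _ Φ.hx he₁0)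
    exact ⟨⟨sub_eq_zero.1 h1, sub_eq_zero.1 h2⟩, hR⟩
  have hcol : ∀ x ∈ Q, x ≠ (1 : K) → ∃ v, Rat F₀ v ∧ glEquiv (x : GL ι F) v - v ≠ 0 := by
    intro x hx hx1
    by_contra h
    push Not at h
    apply hx1
    apply Subtype.ext
    refine gl_ext fun v => ?_
    rw [Subgroup.coe_one, Units.val_one, one_mulVec]
    refine funext fun i => ?_
    have hv : v = ∑ j, v j • (Pi.single j 1 : Vec) := by
      conv_lhs => rw [← Finset.univ_sum_single v]
      exact Finset.sum_congr rfl fun j _ => by rw [← Pi.single_smul, smul_eq_mul, mul_one]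
    have hsum : glEquiv (x : GL ι F) v = v := by
      rw [hv, map_sum]
      refine Finset.sum_congr rfl fun j _ => ?_
      rw [map_smul, sub_eq_zero.1 (h _ (Rat.single j (one_mem _)))]
    exact congrFun hsum i
  have hTI : ∀ k : K, ∀ q ∈ Q, q ≠ 1 → k * q * k⁻¹ ∈ Q → k ∈ Q := by
    intro k q hq hq1 hq'
    apply hKQ
    obtain ⟨v, hv, huv⟩ := hcol q hq hq1
    set p := glEquiv (q : GL ι F) v - v with hp
    have hpR : Rat F₀ p := (hq.2 v hv).sub hv
    have hmem : glEquiv (k : GL ι F) p ∈ E := by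
      have h := hdiff _ hq' (glEquiv (k : GL ι F) v)
      simp only [glEquiv_apply, Subgroup.coe_mul, Subgroup.coe_inv, gl_mul_mulVec, gl_inv_mulVec,
        ← mulVec_sub] at h
      exact h
    exact S.rat_of_point hG k.2.2 hpR huv he₁ he₁0 (by rw [S.symm]; exact (hEiso _ hmem).1)
  -- the rational transvections at `e₁`, `e₂`
  obtain ⟨T, hT, hTR, hT1, hT2, hT3, hT4⟩ : ∃ T ∈ M, (∀ i j, (T : Mat) i j ∈ F₀) ∧ glEquiv T e₁ = e₁ ∧
      glEquiv T e₂ = e₂ ∧ glEquiv T w₀ = w₀ ∧ glEquiv T u₀ = u₀ + e₁ :=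
    S.frame_map Φ ⟨Φ.hx, Φ.hy, Φ.hw, fun i => add_mem (Φ.hu i) (Φ.hx i), d1, d2,
      by simp [S.alt, d3], d4, by simp [d5, c1], by simp [d6, c2]⟩
  obtain ⟨T', hT', hTR', hT1', hT2', hT3', hT4'⟩ : ∃ T ∈ M, (∀ i j, (T : Mat) i j ∈ F₀) ∧
      glEquiv T e₁ = e₁ ∧ glEquiv T e₂ = e₂ ∧ glEquiv T w₀ = w₀ + e₂ ∧ glEquiv T u₀ = u₀ :=
    S.frame_map Φ ⟨Φ.hx, Φ.hy, fun i => add_mem (Φ.hw i) (Φ.hy i), Φ.hu, d1, by simp [d2, d1], d3,
      by simp [S.alt, d4], d5, by simp [d6, d5]⟩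
  have hW : ∀ T : GL ι F, glEquiv T e₁ = e₁ → glEquiv T e₂ = e₂ → glEquiv T w₀ - w₀ ∈ E →
      glEquiv T u₀ - u₀ ∈ E → T ∈ K0 := by
    intro T t1 t2 t3 t4 v
    refine Submodule.mem_sup_left ?_
    have hd := S.decomp Φ v
    have : glEquiv T v - v = B v e₂ • (glEquiv T w₀ - w₀) + B v e₁ • (glEquiv T u₀ - u₀) := by
      calc glEquiv T v - v = glEquiv T (B v u₀ • e₁ + B v w₀ • e₂ + B v e₂ • w₀ + B v e₁ • u₀) -
            (B v u₀ • e₁ + B v w₀ • e₂ + B v e₂ • w₀ + B v e₁ • u₀) := by rw [← hd]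
        _ = _ := by simp only [map_add, map_smul, t1, t2]; module
    rw [this]
    exact E.add_mem (E.smul_mem _ t3) (E.smul_mem _ t4)
  have hTK : T ∈ K := ⟨hW T hT1 hT2 (by rw [hT3, sub_self]; exact E.zero_mem)
    (by rw [hT4, add_sub_cancel_left]; exact he₁E), hT⟩
  have hTK' : T' ∈ K := ⟨hW T' hT1' hT2' (by rw [hT3', add_sub_cancel_left]; exact he₂E)
    (by rw [hT4', sub_self]; exact E.zero_mem), hT'⟩
  have hRat : ∀ T : GL ι F, (∀ i j, (T : Mat) i j ∈ F₀) → ∀ v, Rat F₀ v → Rat F₀ (glEquiv T v) :=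
    fun T hT v hv i => by
      rw [glEquiv_apply]
      exact sum_mem fun j _ => mul_mem (hT i j) (hv j)
  have hTQ : (⟨T, hTK⟩ : K) ∈ Q := ⟨⟨hT1, hT2⟩, hRat T hTR⟩
  have hTQ' : (⟨T', hTK'⟩ : K) ∈ Q := ⟨⟨hT1', hT2'⟩, hRat T' hTR'⟩
  have hne1 : (⟨T, hTK⟩ : K) ≠ 1 := fun e => by
    rw [show T = 1 from congrArg Subtype.val e, map_one] at hT4
    exact he₁0 (left_eq_add.1 hT4)
  have hbot : Q ≠ ⊥ := fun hb => hne1 (Subgroup.mem_bot.1 (hb ▸ hTQ))
  have hgT : g * T * g⁻¹ ∈ K := by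
    refine ⟨fun v => Submodule.mem_sup_right ?_, M.mul_mem (M.mul_mem hg hT) (M.inv_mem hg)⟩
    obtain ⟨v', rfl⟩ := (glEquiv g).surjective v
    have hd := S.decomp Φ v'
    have e : glEquiv T v' - v' = B v' e₁ • e₁ := by
      calc glEquiv T v' - v' = glEquiv T (B v' u₀ • e₁ + B v' w₀ • e₂ + B v' e₂ • w₀ + B v' e₁ • u₀) -
            (B v' u₀ • e₁ + B v' w₀ • e₂ + B v' e₂ • w₀ + B v' e₁ • u₀) := by rw [← hd]
        _ = _ := by simp only [map_add, map_smul, hT1, hT2, hT3, hT4]; module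
    simp only [glEquiv_apply] at e
    simp only [glEquiv_apply, gl_mul_mulVec, gl_inv_mulVec]
    rw [← mulVec_sub, e, mulVec_smul]
    exact Submodule.smul_mem _ _ (Submodule.mem_span_singleton_self _)
  have hne : Q ≠ ⊤ := fun htop => by
    have hq : (⟨_, hgT⟩ : K) ∈ Q := htop ▸ Subgroup.mem_top _
    have h := hdiff _ hq (glEquiv g u₀)
    have e : glEquiv (g * T * g⁻¹) (glEquiv g u₀) = glEquiv g u₀ + a := by
      rw [ha, ← map_add, ← hT4]
      simp only [glEquiv_apply, gl_mul_mulVec, gl_inv_mulVec]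
    rw [show ((⟨_, hgT⟩ : K) : GL ι F) = g * T * g⁻¹ from rfl, e, add_sub_cancel_left] at h
    exact haw e₁ he₁ he₁0 (by rw [S.symm]; exact (hEiso _ h).1)
  haveI := Cfsg.Agent.Lib.SubfieldMax.TI.isCyclic_of_ti Q hQp hcomm hne hbot hTI
  obtain ⟨gen, hgen⟩ := IsCyclic.exists_generator (α := Q)
  have hsmall : ∀ x : Q, x = 1 ∨ x = gen := by
    intro x
    obtain ⟨n, rfl⟩ := (isOfFinOrder_of_finite gen).mem_powers_iff_mem_zpowers.2 (hgen x)
    have hg2 : gen ^ 2 = 1 := Subtype.ext (by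
      rw [pow_two, Subgroup.coe_mul, Subgroup.coe_one]; exact hord _ gen.2)
    show gen ^ n = 1 ∨ gen ^ n = gen
    rw [← Nat.div_add_mod n 2, pow_add, pow_mul, hg2, one_pow, one_mul]
    rcases Nat.mod_two_eq_zero_or_one n with h | h <;> simp [h]
  have hTT : T = T' := by
    rcases hsmall ⟨_, hTQ⟩ with h | h
    · exact absurd (congrArg Subtype.val h) hne1
    rcases hsmall ⟨_, hTQ'⟩ with h' | h'
    · have e : T' = 1 := congrArg (fun z : Q => ((z : K) : GL ι F)) h'
      rw [e, map_one] at hT3'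
      exact absurd (left_eq_add.1 hT3') (S.frame_ne_zero Φ).2
    · exact congrArg (fun z : Q => ((z : K) : GL ι F)) (h.trans h'.symm)
  rw [← hTT, hT3] at hT3'
  exact (S.frame_ne_zero Φ).2 (left_eq_add.1 hT3')

end Setting

end Cfsg.Agent.Lib.SpFourEven23.Subfield
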